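import Groth.Agent.H9Gen.Descent
import Groth.Agent.StModLib.FibObj

/-!
# Relative generation over affine objects passes to affine objects over them
-/

set_option autoImplicit false
set_option linter.style.haveILetI false
set_option linter.unusedSectionVars false
set_option backward.isDefEq.respectTransparency false
set_option backward.isDefEq.respectTransparency.types false

universe v w u

open CategoryTheory CategoryTheory.Limits AlgebraicGeometry AlgSp
open Groth.Agent.StModLib Groth.Agent.AlgStLib Groth.Agent.FibBase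

noncomputable section

namespace Groth.Agent.H9Gen

variable {S : Scheme.{u}} {𝒜 𝒳 𝒴 : AlgSt.Cat S}

/-- The structure sheaf generates when there is a final affine object. -/
theorem isGenFam_O_of_terminal (hp : FibCat.IsFibGrpd 𝒜.p) (T : Aff 𝒜)
    (hex : ∀ x : 𝒜.obj, Nonempty (x ⟶ T.1)) (huniq : ∀ {x : 𝒜.obj} (a b : x ⟶ T.1), a = b) :
    StMod.IsGenFam fun _ : PUnit.{u + 1} => StMod.OQ 𝒜 := by
  refine (StMod.isGenFam_iff _).2 fun M N v hv => hom_ext_aff hp fun x m => ?_
  show (v.hom.app x.1).app ⊤ m = 0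
  have hT : ∀ n : Γ(M.obj.obj T.1, ⊤), (v.hom.app T.1).app ⊤ n = 0 := fun n => by
    let F : NatFam (StMod.O 𝒜) M.obj := ⟨fun y =>
      { toFun := fun e => (show Γ(StMod.sch 𝒜 y.1, ⊤) from e) • M.obj.mapTop (hex y.1).some n
        map_add' := fun e e' => add_smul (R := Γ(StMod.sch 𝒜 y.1, ⊤)) e e' _
        map_smul' := fun r e => mul_smul (α := Γ(StMod.sch 𝒜 y.1, ⊤)) r e _ },
      fun y' y φ e => by
        show M.obj.mapTop φ ((show Γ(StMod.sch 𝒜 y.1, ⊤) from e) • M.obj.mapTop (hex y.1).some n) = _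
        rw [M.obj.mapTop_smul, ← M.obj.mapTop_comp, huniq (φ ≫ (hex y.1).some) (hex y'.1).some]
        rfl⟩
    obtain ⟨a, ha⟩ := exists_hom_natFam hp M.property F
    have h1 : (a.app T.1).app ⊤ (one 𝒜 T.1) = n := by
      rw [ha T (one 𝒜 T.1)]
      show (1 : Γ(StMod.sch 𝒜 T.1, ⊤)) • M.obj.mapTop (hex T.1).some n = n
      rw [one_smul, huniq (hex T.1).some (𝟙 T.1), M.obj.mapTop_id]
    rw [← h1]
    exact congrArg (fun t : StMod.O 𝒜 ⟶ N.obj => (t.app T.1).app ⊤ (one 𝒜 T.1)) (hv PUnit.unit a)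
  have e := linearMap_ext_semiBC (isSemiBC_res M (y := x) (z := T) (hex x.1).some)
    (g := (NatFam.ofHom v.hom).1 x) (g' := 0) fun n => by
      show (v.hom.app x.1).app ⊤ (M.obj.mapTop (hex x.1).some n) = 0
      rw [← StMod.Mod.mapTop_app, hT, StMod.Mod.mapTop_zero]
  exact LinearMap.congr_fun e m

variable (f : 𝒳 ⥤ᵇ 𝒴)

/-- The functor between the categories over two objects induced by a morphism. -/
def postFun {ζ' ζ : 𝒴.obj} (b : ζ' ⟶ ζ) : StMod.fibCat f ζ' ⥤ᵇ StMod.fibCat f ζ where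
  toFunctor := CostructuredArrow.map b
  w := rfl

/-- Generators over an affine object generate over every affine object above it. -/
theorem isGenFam_of_morphism (h𝒳 : AlgSt.IsAlgStack Scheme.fppfPrecoverage 𝒳)
    (h𝒴 : AlgSt.IsAlgStack Scheme.fppfPrecoverage 𝒴) {ζ' ζ : 𝒴.obj} (b : ζ' ⟶ ζ)
    (hζ' : IsAffine (StMod.sch 𝒴 ζ')) (hζ : IsAffine (StMod.sch 𝒴 ζ)) {ι : Type v} (E : ι → StMod.QCoh 𝒳)
    (h : StMod.IsGenFam fun i => (StMod.comapQ (StMod.fibFst f ζ)).obj (E i)) :
    StMod.IsGenFam fun i => (StMod.comapQ (StMod.fibFst f ζ')).obj (E i) := by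
  have hx := h𝒳.isStack.1
  have hp := h𝒴.isStack.1
  obtain ⟨x₀, ⟨P⟩, hd⟩ := exists_atlas_fibCat f h𝒴 h𝒳 ζ
  have hq := isFibGrpd_fibCat f ζ' hx
  have hq' := isFibGrpd_fibCat f ζ hx
  let j := postFun f b
  have hobj : ∀ w : (StMod.fibCat f ζ).obj, IsAffine (StMod.sch (StMod.fibCat f ζ) w) →
      ∃ (z : (StMod.fibCat f ζ').obj) (α : j.obj z ⟶ w), IsAffine (StMod.sch (StMod.fibCat f ζ') z) ∧
        ∀ (x : (StMod.fibCat f ζ').obj) (δ : j.obj x ⟶ w), ∃! χ : x ⟶ z, j.map χ ≫ α = δ := by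
    intro w hw
    obtain ⟨z, φ, β', hφ, hsq⟩ := exists_bc_obj b hx hp w.left w.hom
    let Z : (StMod.fibCat f ζ').obj := CostructuredArrow.mk β'
    let α : j.obj Z ⟶ w := CostructuredArrow.homMk φ hφ
    refine ⟨Z, α, ?_, fun x δ => ?_⟩
    · haveI : IsAffine (StMod.sch 𝒳 w.left) := hw
      haveI := hζ
      haveI := hζ'
      haveI : IsAffineHom (StMod.bmap 𝒴 b) := inferInstance
      haveI : IsAffineHom (StMod.bmap 𝒳 φ) := MorphismProperty.of_isPullback hsq.flip inferInstance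
      exact isAffine_of_isAffineHom (StMod.bmap 𝒳 φ)
    obtain ⟨χ, hχ, hχ'⟩ := exists_bc_hom b hx hp hφ hsq δ.left x.hom (CostructuredArrow.w δ)
    refine ⟨CostructuredArrow.homMk χ hχ', CostructuredArrow.hom_ext _ _ hχ, fun χ₁ hχ₁ => ?_⟩
    refine CostructuredArrow.hom_ext _ _ ?_
    have h1 : χ₁.left ≫ φ = δ.left := congrArg CommaMorphism.left hχ₁
    have hbm : StMod.bmap 𝒳 χ₁.left = StMod.bmap 𝒳 χ := by
      refine hsq.hom_ext ?_ ?_
      · rw [← StMod.bmap_comp, ← StMod.bmap_comp, h1, hχ]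
      · exact ((StMod.bmap_comp_baseOver_left f χ₁.left β').trans
          (congrArg (fun t => (StMod.baseOver f x.left t).left) (CostructuredArrow.w χ₁))).trans
          (congrArg (fun t => (StMod.baseOver f x.left t).left) hχ'.symm) |>.trans
          (StMod.bmap_comp_baseOver_left f χ β').symm
    exact (existsUnique_lift_bmap hx φ δ.left (StMod.bmap 𝒳 χ) (by rw [← StMod.bmap_comp, hχ])).unique
      ⟨hbm, h1⟩ ⟨rfl, hχ⟩
  refine isGenFam_of_iso (fun i => ?_) (isGenFam_comap_of_structureSheaf_fib hq hq' j P hd (fun w hw => ?_)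
    (fun i => (StMod.comapQ (StMod.fibFst f ζ)).obj (E i)) (fun t => ?_) h)
  · exact (StMod.comapCompIso (StMod.fibFst f ζ) j (E i).obj).symm
  · obtain ⟨z, α, hz, hu⟩ := hobj w hw
    haveI := hz
    exact nonempty_pres_of_obj hq z α hu
  · obtain ⟨z, α, hz, hu⟩ := hobj t.1 t.2.1
    refine isGenFam_of_iso (fun _ => (StMod.comapOIso (StMod.fibFst j t.1)).symm)
      (isGenFam_O_of_terminal (isFibGrpd_fibCat _ _ hq) ⟨CostructuredArrow.mk α, hz⟩ (fun x => ?_) fun {x} a c => ?_)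
    · obtain ⟨χ, hχ, -⟩ := hu x.left x.hom
      exact ⟨CostructuredArrow.homMk χ hχ⟩
    · exact CostructuredArrow.hom_ext _ _ ((hu x.left x.hom).unique (CostructuredArrow.w a) (CostructuredArrow.w c))

/-- Any two morphisms to the terminal object of a chart agree. -/
theorem hom_topOver_ext {T : Over S} {o : (FibCat.overCat T : AlgSt.Cat S).obj} (m m' : o ⟶ topOver T) : m = m' := by
  refine Over.OverMorphism.ext ?_
  have h1 : m.left ≫ 𝟙 T = o.hom := Over.w m
  have h2 : m'.left ≫ 𝟙 T = o.hom := Over.w m'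
  exact ((Category.comp_id _).symm.trans (h1.trans h2.symm)).trans (Category.comp_id _)

/-- The base change of a morphism along a chart, seen over the terminal object of the chart. -/
def toFibTop (T : Over S) (y : FibCat.overCat T ⥤ᵇ 𝒴) :
    FibCat.fp f y ⥤ᵇ StMod.fibCat (FibCat.fpSnd f y) (topOver T) where
  toFunctor :=
    { obj := fun x => CostructuredArrow.mk (Y := x) (Over.homMk x.obj.snd.hom (Category.comp_id _))
      map := fun {x' x} m => CostructuredArrow.homMk m (Over.OverMorphism.ext (by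
        show m.hom.snd.left ≫ x.obj.snd.hom = x'.obj.snd.hom
        exact Over.w m.hom.snd)) }
  w := rfl

theorem toFibTop_full (T : Over S) (y : FibCat.overCat T ⥤ᵇ 𝒴) : (toFibTop f T y).toFunctor.Full :=
  ⟨fun {_ _} m => ⟨m.left, CostructuredArrow.hom_ext _ _ rfl⟩⟩

theorem toFibTop_surj (T : Over S) (y : FibCat.overCat T ⥤ᵇ 𝒴)
    (b : (StMod.fibCat (FibCat.fpSnd f y) (topOver T)).obj) :
    ∃ a, Nonempty ((toFibTop f T y).obj a ≅ b) :=
  ⟨b.left, ⟨CostructuredArrow.isoMk (Iso.refl _) (hom_topOver_ext _ _)⟩⟩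

end Groth.Agent.H9Gen
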