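import Groth.Agent.H9Gen.Geometry
import Groth.Agent.StModLib.FlatHom

/-!
# Atlases of the category over an object
-/

set_option autoImplicit false
set_option linter.style.haveILetI false
set_option linter.unusedSectionVars false
set_option backward.isDefEq.respectTransparency false
set_option backward.isDefEq.respectTransparency.types false

universe v u

open CategoryTheory CategoryTheory.Limits AlgebraicGeometry AlgSp
open Groth.Agent.StModLib Groth.Agent.AlgStLib Groth.Agent.FibBase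

noncomputable section

namespace Groth.Agent.H9Gen

variable {S : Scheme.{u}} {𝒜 ℬ : AlgSt.Cat S} (K : 𝒜 ⥤ᵇ ℬ)

theorem flat_bmap_map {x' x : 𝒜.obj} (φ : x' ⟶ x) (h : Flat (StMod.bmap 𝒜 φ)) :
    Flat (StMod.bmap ℬ (K.map φ)) := by
  haveI := h
  rw [bmap_map K φ]
  infer_instance

theorem isAffine_map {x : 𝒜.obj} (h : IsAffine (StMod.sch 𝒜 x)) : IsAffine (StMod.sch ℬ (K.obj x)) := by
  haveI := h
  exact IsAffine.of_isIso (eqToHom (StMod.sch_obj_eq K x))

/-- Atlases transport along fully faithful essentially surjective functors. -/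
theorem exists_atlas_map [K.toFunctor.Full] [K.toFunctor.Faithful]
    (hsurj : ∀ b : ℬ.obj, ∃ a, Nonempty (K.obj a ≅ b)) {x₀ : 𝒜.obj} (P : PairAtlas x₀) (hd : IsDenseObj x₀) :
    Nonempty (PairAtlas (K.obj x₀)) ∧ IsDenseObj (K.obj x₀) := by
  refine ⟨⟨{
    κ := P.κ, R := fun l => K.obj (P.R l), aff := fun l => isAffine_map K (P.aff l)
    c := fun l => K.map (P.c l), d := fun l => K.map (P.d l)
    flatc := fun l => flat_bmap_map K _ (P.flatc l), flatd := fun l => flat_bmap_map K _ (P.flatd l)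
    cov := fun y u v => ?_, cmp := fun w u v y l e e' h₁ h₂ => ?_ }⟩, fun η => ?_⟩
  · obtain ⟨a, ⟨θ⟩⟩ := hsurj y
    obtain ⟨u', hu'⟩ := K.toFunctor.map_surjective (θ.hom ≫ u)
    obtain ⟨v', hv'⟩ := K.toFunctor.map_surjective (θ.hom ≫ v)
    obtain ⟨ι, z, φ, hc, he⟩ := P.cov a u' v'
    refine ⟨ι, fun i => K.obj (z i), fun i => K.map (φ i) ≫ θ.hom, (isCov_map K hc).comp_isIso θ.hom, fun i => ?_⟩
    obtain ⟨l, e, h₁, h₂⟩ := he i
    refine ⟨l, K.map e, ?_, ?_⟩
    · rw [← Functor.map_comp, h₁, Functor.map_comp, hu', Category.assoc]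
    · rw [← Functor.map_comp, h₂, Functor.map_comp, hv', Category.assoc]
  · obtain ⟨aw, ⟨θw⟩⟩ := hsurj w
    obtain ⟨ay, ⟨θy⟩⟩ := hsurj y
    obtain ⟨u', hu'⟩ := K.toFunctor.map_surjective (θw.hom ≫ u)
    obtain ⟨v', hv'⟩ := K.toFunctor.map_surjective (θw.hom ≫ v)
    obtain ⟨ea, hea⟩ := K.toFunctor.map_surjective (θy.hom ≫ e ≫ θw.inv)
    obtain ⟨ea', hea'⟩ := K.toFunctor.map_surjective (θy.hom ≫ e')
    have k₁ : ea ≫ u' = ea' ≫ P.c l := K.toFunctor.map_injective (by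
      rw [Functor.map_comp, Functor.map_comp, hea, hu', hea']
      simp only [Category.assoc, Iso.inv_hom_id_assoc, h₁])
    have k₂ : ea ≫ v' = ea' ≫ P.d l := K.toFunctor.map_injective (by
      rw [Functor.map_comp, Functor.map_comp, hea, hv', hea']
      simp only [Category.assoc, Iso.inv_hom_id_assoc, h₂])
    obtain ⟨ι, z, φ, hc, hr⟩ := P.cmp aw u' v' ay l ea ea' k₁ k₂
    refine ⟨ι, fun i => K.obj (z i), fun i => K.map (φ i) ≫ θy.hom, (isCov_map K hc).comp_isIso θy.hom,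
      fun i => ?_⟩
    obtain ⟨r, a, b, m, hfl, haff, ha₁, ha₂, hm₁, hm₂⟩ := hr i
    refine ⟨K.obj r, K.map a ≫ θw.hom, K.map b, K.map m, ?_, isAffine_map K haff, ?_, ?_, ?_, ?_⟩
    · haveI := flat_bmap_map K a hfl
      haveI : IsIso (StMod.bmap ℬ θw.hom) := inferInstanceAs (IsIso (ℬ.p.map θw.hom).left)
      rw [StMod.bmap_comp]
      infer_instance
    · rw [Category.assoc, ← hu', ← Functor.map_comp, ha₁, Functor.map_comp]
    · rw [Category.assoc, ← hv', ← Functor.map_comp, ha₂, Functor.map_comp]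
    · rw [← Category.assoc, ← Functor.map_comp, hm₁, Functor.map_comp, hea]
      simp
    · rw [← Functor.map_comp, hm₂, Functor.map_comp, hea', Category.assoc]
  · obtain ⟨a, ⟨θ⟩⟩ := hsurj η
    obtain ⟨ι, z, φ, hc, hz⟩ := hd a
    exact ⟨ι, fun i => K.obj (z i), fun i => K.map (φ i) ≫ θ.hom, (isCov_map K hc).comp_isIso θ.hom,
      fun i => (hz i).map fun m => K.map m⟩

section Fp

variable {𝒴 𝒵 : AlgSt.Cat S} {T : Over S} (G : FibCat.overCat T ⥤ᵇ 𝒵) (g : 𝒴 ⥤ᵇ 𝒵)

/-- The canonical morphism to the final object of the slice. -/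
abbrev fpTop (v : (FibCat.fp G g).obj) : (FibCat.fpFst G g).obj v ⟶ topOver T :=
  Over.homMk v.obj.fst.hom (Category.comp_id _)

theorem eq_fpTop {v : (FibCat.fp G g).obj} (b : (FibCat.fpFst G g).obj v ⟶ topOver T) : b = fpTop G g v :=
  Over.OverMorphism.ext ((Category.comp_id _).symm.trans (Over.w b))

/-- The fibre product with a slice, as the category over an object. -/
def fpToFib {η : 𝒵.obj} (e : G.obj (topOver T) ≅ η) : FibCat.fp G g ⥤ᵇ StMod.fibCat g η where
  toFunctor :=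
    { obj := fun v => CostructuredArrow.mk (Y := v.obj.snd) (transMor G g v (fpTop G g v) ≫ e.hom)
      map := fun {v' v} m => CostructuredArrow.homMk m.hom.snd (by
        show g.map m.hom.snd ≫ transMor G g v (fpTop G g v) ≫ e.hom = _
        rw [← Category.assoc, transMor_natural, eq_fpTop G g ((FibCat.fpFst G g).map m ≫ fpTop G g v)]
        rfl) }
  w := (FibCat.fpSnd G g).w

/-- The category over an object has an atlas. -/
theorem exists_atlas_fibCat (h𝒵 : AlgSt.IsAlgStack Scheme.fppfPrecoverage 𝒵)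
    (h𝒴 : AlgSt.IsAlgStack Scheme.fppfPrecoverage 𝒴) (η : 𝒵.obj) :
    ∃ x₀ : (StMod.fibCat g η).obj, Nonempty (PairAtlas x₀) ∧ IsDenseObj x₀ := by
  obtain ⟨G, e, -⟩ := exists_overCat_obj h𝒵.isStack.1 η rfl
  have hfp := isAlgStack_fp (isAlgStack_overCat (𝒵.p.obj η)) h𝒴 h𝒵.isStack h𝒵.diag G g
  obtain ⟨v₀, ⟨P⟩, hd⟩ := exists_atlasObj hfp
  let K := fpToFib G g e
  have hz := isFibGrpd_overCat (S := S) (𝒵.p.obj η)
  haveI : K.toFunctor.Full := ⟨fun {v' v} m => by
    have h : g.map m.left ≫ transMor G g v (fpTop G g v) = transMor G g v' (fpTop G g v') :=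
      (cancel_mono e.hom).1 ((Category.assoc _ _ _).trans (CostructuredArrow.w m))
    obtain ⟨μ, hμ, -⟩ := exists_fp_hom G g hz h𝒵.isStack.1 (fpTop G g v') (fpTop G g v) m.left h
    exact ⟨μ, CostructuredArrow.hom_ext _ _ hμ⟩⟩
  haveI : K.toFunctor.Faithful := ⟨fun {v' v} m m' h => fp_hom_ext G g hz h𝒴.isStack.1 _ (fpTop G g v)
    (congrArg CommaMorphism.left h)
    ((eq_fpTop G g ((FibCat.fpFst G g).map m ≫ fpTop G g v)).trans
      (eq_fpTop G g ((FibCat.fpFst G g).map m' ≫ fpTop G g v)).symm)⟩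
  refine ⟨K.obj v₀, exists_atlas_map K (fun b => ?_) P hd⟩
  obtain ⟨v, hv, β, hβ⟩ := exists_fp_obj G g hz h𝒵.isStack.1 b.left (b.hom ≫ e.inv)
  refine ⟨v, ⟨CostructuredArrow.isoMk (eqToIso hv) ?_⟩⟩
  show g.map (eqToHom hv) ≫ b.hom = transMor G g v (fpTop G g v) ≫ e.hom
  rw [← eq_fpTop G g β, hβ]
  simp

end Fp

end Groth.Agent.H9Gen
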