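import Groth.Agent.H9Gen.FlatCover
import Groth.Agent.StModLib.CohDescent

/-!
# Relative generation descends along flat families
-/

set_option autoImplicit false
set_option linter.style.haveILetI false
set_option linter.unusedSectionVars false
set_option backward.isDefEq.respectTransparency false
set_option backward.isDefEq.respectTransparency.types false

universe v w u

open CategoryTheory CategoryTheory.Limits AlgebraicGeometry AlgSp
open Groth.Agent.StModLib Groth.Agent.AlgStLib Groth.Agent.FibBase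
open scoped TensorProduct

noncomputable section

namespace Groth.Agent.H9Gen

/-- Flat base changes which are jointly surjective on spectra separate the elements of a module. -/
theorem eq_zero_of_flat_family {A : Type u} [CommRing A] {J : Type*} {B : J → Type u} [∀ j, CommRing (B j)]
    {σ : ∀ j, A →+* B j} (hσ : ∀ j, (σ j).Flat)
    (hcov : ∀ p : PrimeSpectrum A, ∃ (j : J) (q : PrimeSpectrum (B j)), PrimeSpectrum.comap (σ j) q = p)
    {M : Type u} [AddCommGroup M] [Module A M] {N : J → Type u} [∀ j, AddCommGroup (N j)]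
    [∀ j, Module (B j) (N j)] {l : ∀ j, M →+ N j} (hl : ∀ j, IsSemiBC (σ j) (l j)) {x : M}
    (h : ∀ j, l j x = 0) : x = 0 := by
  letI : ∀ j, Algebra A (B j) := fun j => (σ j).toAlgebra
  haveI : ∀ j, Module.Flat A (B j) := fun j => hσ j
  let Q := Submodule.span A {x}
  have hz := injective_of_forall_lTensor' (B := B) hcov (0 : Q →ₗ[A] PUnit.{u + 1}) fun j a b _ => ?_
  · exact congrArg Subtype.val
      (hz (a₁ := ⟨x, Submodule.mem_span_singleton_self _⟩) (a₂ := 0) rfl)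
  obtain ⟨L, hL⟩ := exists_tensor_map (σ := σ j) (l j) (hl j).choose
  have hinj : Function.Injective (Q.subtype.lTensor (B j)) :=
    Module.Flat.lTensor_preserves_injective_linearMap _ Q.injective_subtype
  have h0 : ∀ t, L (Q.subtype.lTensor (B j) t) = 0 := fun t => by
    induction t using TensorProduct.induction_on with
    | zero => simp
    | add a b ha hb => rw [map_add, map_add, ha, hb, add_zero]
    | tmul s q =>
      obtain ⟨r, hr⟩ := Submodule.mem_span_singleton.1 q.2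
      rw [LinearMap.lTensor_tmul, hL, Submodule.subtype_apply, ← hr, (hl j).choose, h, smul_zero, smul_zero]
  exact hinj ((bijective_of_isSemiBC (hl j) L hL).1 ((h0 a).trans (h0 b).symm))

variable {S : Scheme.{u}} {𝒳 𝒴 𝒴' : AlgSt.Cat S}

/-- The category over an object of a base change, read over its image. -/
def fibSndFun (f : 𝒳 ⥤ᵇ 𝒴) (u : 𝒴' ⥤ᵇ 𝒴) (ζ : 𝒴'.obj) :
    StMod.fibCat (FibCat.fpSnd f u) ζ ⥤ᵇ StMod.fibCat f (u.obj ζ) where
  toFunctor :=
    { obj := fun x => CostructuredArrow.mk (Y := x.left.obj.fst) (x.left.obj.iso.hom ≫ u.map x.hom)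
      map := fun {x' x} m => CostructuredArrow.homMk m.left.hom.fst (by
        have hw : m.left.hom.snd ≫ x.hom = x'.hom := CostructuredArrow.w m
        show f.map m.left.hom.fst ≫ x.left.obj.iso.hom ≫ u.map x.hom = x'.left.obj.iso.hom ≫ u.map x'.hom
        rw [← Category.assoc, m.left.hom.w, Category.assoc]
        exact congrArg (x'.left.obj.iso.hom ≫ ·) ((u.toFunctor.map_comp _ _).symm.trans (congrArg u.map hw))) }
  w := congrArg (fun F => CostructuredArrow.proj (FibCat.fpSnd f u).toFunctor ζ ⋙ F) (FibCat.fpFst f u).w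

theorem fibSndFun_surj (f : 𝒳 ⥤ᵇ 𝒴) (u : 𝒴' ⥤ᵇ 𝒴) (ζ : 𝒴'.obj) (h𝒳 : FibCat.IsFibGrpd 𝒳.p)
    (h𝒴 : FibCat.IsFibGrpd 𝒴.p) (h𝒴' : FibCat.IsFibGrpd 𝒴'.p) (b : (StMod.fibCat f (u.obj ζ)).obj) :
    ∃ a, Nonempty ((fibSndFun f u ζ).obj a ≅ b) := by
  obtain ⟨ζ', ρ, e, h, he, hρ⟩ := exists_lift_map u h𝒴' h𝒴 (x := ζ) (η := f.obj b.left) b.hom
  have hl : 𝒴.p.IsHomLift (𝟙 (𝒳.p.obj b.left)) e.hom := IsHomLift.of_fac' 𝒴.p _ _ (f.w_obj b.left)
    (h.symm.trans (f.w_obj b.left)) (by rw [he]; simp)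
  let X : (FibCat.fp f u).obj := ⟨{ fst := b.left, snd := ζ', iso := e }, hl⟩
  refine ⟨CostructuredArrow.mk (Y := X) ρ, ⟨CostructuredArrow.isoMk (Iso.refl _) ?_⟩⟩
  show f.map (𝟙 b.left) ≫ b.hom = e.hom ≫ u.map ρ
  rw [f.map_id, Category.id_comp, hρ]

theorem fibSndFun_full (f : 𝒳 ⥤ᵇ 𝒴) (u : 𝒴' ⥤ᵇ 𝒴) (ζ : 𝒴'.obj) (h𝒴 : FibCat.IsFibGrpd 𝒴.p)
    (h𝒴' : FibCat.IsFibGrpd 𝒴'.p) : (fibSndFun f u ζ).toFunctor.Full := ⟨fun {x' x} m => by
  let a : x'.left.obj.fst ⟶ x.left.obj.fst := m.left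
  have hm : f.map a ≫ x.left.obj.iso.hom ≫ u.map x.hom = x'.left.obj.iso.hom ≫ u.map x'.hom :=
    CostructuredArrow.w m
  let ψ : u.obj x'.left.obj.snd ⟶ u.obj x.left.obj.snd :=
    x'.left.obj.iso.inv ≫ f.map a ≫ x.left.obj.iso.hom
  have hψ : ψ ≫ u.map x.hom = u.map x'.hom := by
    simp only [ψ, Category.assoc, hm, Iso.inv_hom_id_assoc]
  let b₀ : 𝒴'.p.obj x'.left.obj.snd ⟶ 𝒴'.p.obj x.left.obj.snd :=
    eqToHom (u.w_obj _).symm ≫ 𝒴.p.map ψ ≫ eqToHom (u.w_obj _)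
  have hb₀ : b₀ ≫ 𝒴'.p.map x.hom = 𝒴'.p.map x'.hom := by
    have e1 := congrArg 𝒴.p.map hψ
    rw [Functor.map_comp, map_w u x.hom, map_w u x'.hom] at e1
    have e2 := congrArg (fun t => eqToHom (u.w_obj x'.left.obj.snd).symm ≫ t ≫ eqToHom (u.w_obj ζ)) e1
    simpa [b₀] using e2
  obtain ⟨b, ⟨hb, hbx⟩, -⟩ := existsUnique_lift h𝒴' x.hom x'.hom b₀ hb₀
  have hub : u.map b = ψ := by
    refine hom_ext_of_map h𝒴 (u.map x.hom) ?_ (((u.toFunctor.map_comp _ _).symm.trans (congrArg u.map hbx)).trans hψ.symm)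
    rw [map_w u b, hb]
    simp [b₀]
  have hw' : f.map a ≫ x.left.obj.iso.hom = x'.left.obj.iso.hom ≫ u.map b := by
    rw [hub]
    simp [ψ]
  let M : x'.left ⟶ x.left := ObjectProperty.homMk { fst := a, snd := b, w := hw' }
  exact ⟨CostructuredArrow.homMk M hbx, CostructuredArrow.hom_ext _ _ rfl⟩⟩

variable (f : 𝒳 ⥤ᵇ 𝒴)

/-- Relative generation is local for flat affine coverings of affine objects. -/
theorem isRelGenFam_of_flat_cover (h𝒳 : FibCat.IsFibGrpd 𝒳.p) (h𝒴 : AlgSt.IsAlgStack Scheme.fppfPrecoverage 𝒴)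
    (hfqc : AlgSt.IsQuasiCompactMor Scheme.fppfPrecoverage f) (hfqs : AlgSt.IsQuasiSeparatedMor f)
    {ι : Type u} (E : ι → StMod.QCoh 𝒳) (hE : ∀ i, (E i).obj.IsFinPres)
    (hcov : ∀ η : 𝒴.obj, IsAffine (StMod.sch 𝒴 η) → ∀ t : StMod.sch 𝒴 η, ∃ (z : 𝒴.obj) (φ : z ⟶ η),
      IsAffine (StMod.sch 𝒴 z) ∧ Flat (StMod.bmap 𝒴 φ) ∧ t ∈ Set.range (StMod.bmap 𝒴 φ) ∧
      StMod.IsGenFam fun i => (StMod.comapQ (StMod.fibFst f z)).obj (E i)) :
    StMod.IsRelGenFam f E := by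
  intro η hη
  have hp := h𝒴.isStack.1
  have hZ := isFibGrpd_fibCat f η h𝒳
  let ℰ : ι → StMod.QCoh (StMod.fibCat f η) := fun i => (StMod.comapQ (StMod.fibFst f η)).obj (E i)
  let k : StMod.fibCat f η ⥤ᵇ StMod.fibCat (BasedFunctor.id 𝒴) η := resF f (BasedFunctor.id 𝒴) η
  have hW := isFibGrpd_fibCat (BasedFunctor.id 𝒴) η hp
  let ζ₀ : (StMod.fibCat (BasedFunctor.id 𝒴) η).obj := CostructuredArrow.mk (Y := η) (𝟙 η)
  have htop : ∀ {b : (StMod.fibCat (BasedFunctor.id 𝒴) η).obj} (m m' : b ⟶ ζ₀), m = m' := fun {b} m m' =>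
    CostructuredArrow.hom_ext _ _ (by
      have h1 : m.left ≫ 𝟙 η = b.hom := CostructuredArrow.w m
      have h2 : m'.left ≫ 𝟙 η = b.hom := CostructuredArrow.w m'
      exact ((Category.comp_id _).symm.trans (h1.trans h2.symm)).trans (Category.comp_id _))
  haveI : IsAffine (StMod.sch 𝒴 η) := hη
  haveI hζ₀ : IsAffine (StMod.sch (StMod.fibCat (BasedFunctor.id 𝒴) η) ζ₀) := hη
  obtain ⟨c₀⟩ := nonempty_pres h𝒳 hp hfqc hfqs η
  obtain ⟨c⟩ := nonempty_pres_resF f (g := BasedFunctor.id 𝒴) ζ₀ c₀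
  refine (StMod.isGenFam_iff ℰ).2 fun M N v hv => ?_
  have hkill : ∀ i (s : HomSect k (ℰ i).obj M.obj ζ₀), HomSect.post v.hom s = 0 := by
    intro i s
    let top : ∀ x : Aff (StMod.fibCat f η), k.obj x.1 ⟶ ζ₀ := fun x =>
      CostructuredArrow.homMk x.1.hom (Category.comp_id _)
    let n : NatFam (ℰ i).obj M.obj := ⟨fun x => s.1 x (top x), fun x' x φ e => by
      rw [s.nat φ (top x) e, htop (k.map φ ≫ top x) (top x')]⟩
    obtain ⟨a, ha⟩ := exists_hom_natFam hZ M.property n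
    refine HomSect.ext fun x β e => ?_
    show (v.hom.app x.1).app ⊤ (s.1 x β e) = 0
    rw [htop β (top x), ← ha x e]
    exact congrArg (fun t : (ℰ i).obj ⟶ N.obj => (t.app x.1).app ⊤ e) (hv i a)
  refine hom_ext_aff hZ fun x m => ?_
  show (v.hom.app x.1).app ⊤ m = 0
  choose z φ hzaff hflat ht hgz using hcov η hη
  let B : StMod.sch 𝒴 η → (StMod.fibCat (BasedFunctor.id 𝒴) η).obj := fun t =>
    CostructuredArrow.mk (Y := z t) (φ t)
  let b : ∀ t, B t ⟶ ζ₀ := fun t => CostructuredArrow.homMk (φ t) (Category.comp_id _)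
  have hB : ∀ t, IsAffine (StMod.sch (StMod.fibCat (BasedFunctor.id 𝒴) η) (B t)) := fun t => hzaff t
  have hvan : ∀ t (y : Aff (StMod.fibCat f η)) (_ : k.obj y.1 ⟶ B t) (e : Γ(M.obj.obj y.1, ⊤)),
      (v.hom.app y.1).app ⊤ e = 0 := by
    intro t y δ e
    haveI := hB t
    haveI : Flat (StMod.bmap (StMod.fibCat (BasedFunctor.id 𝒴) η) (b t)) := hflat t
    refine app_eq_zero_of_genFib hZ ℰ ?_ v (fun i s => ?_) y δ e
    · exact isGenFam_resF_fib f (B t) h𝒳 E (hgz t)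
    · have hbc := isSemiBC_homRes (E := ℰ i) (M := M) hZ hW (b t) c (isFinPres_comap (StMod.fibFst f η) (hE i))
      exact DFunLike.congr_fun (hbc.ext (τ := RingHom.id _) (g := (HomSect.post v.hom).toAddMonoidHom) (g' := 0)
        (fun r h => map_smul (HomSect.post v.hom) r h) (fun r h => (smul_zero _).symm) fun s₀ => by
          show HomSect.post v.hom (homRes k (ℰ i).obj M.obj (b t) s₀) = 0
          rw [HomSect.post_homRes, hkill, map_zero]) s
  -- descend to `x`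
  let top : k.obj x.1 ⟶ ζ₀ := CostructuredArrow.homMk x.1.hom (Category.comp_id _)
  choose y χ δ hχ hsq using fun t => exists_bc_obj (b t) hZ hW x.1 top
  haveI : IsAffine (StMod.sch (StMod.fibCat f η) x.1) := x.2
  have hy : ∀ t, IsAffine (StMod.sch (StMod.fibCat f η) (y t)) := fun t => by
    haveI := hB t
    haveI : IsAffine ((StMod.fibCat (BasedFunctor.id 𝒴) η).p.obj (B t)).left := hB t
    haveI : IsAffine ((StMod.fibCat (BasedFunctor.id 𝒴) η).p.obj ζ₀).left := hη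
    haveI : IsAffine ((StMod.fibCat f η).p.obj x.1).left := x.2
    exact IsAffine.of_isIso (hsq t).isoPullback.hom
  have hχf : ∀ t, Flat (StMod.bmap (StMod.fibCat f η) (χ t)) := fun t =>
    MorphismProperty.of_isPullback (hsq t).flip (show Flat (StMod.bmap _ (b t)) from hflat t)
  refine eq_zero_of_flat_family (σ := fun t => fn (χ t)) (fun t => flat_fn (χ t) (hy t) x.2 (hχf t)) ?_
    (l := fun t => res N.obj (χ t)) (fun t => isSemiBC_res N (y := ⟨y t, hy t⟩) (z := x) (χ t)) fun t => ?_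
  · haveI := hy
    refine exists_prime_of_cover χ fun s => ?_
    obtain ⟨r, hr⟩ := ht ((StMod.baseOver k x.1 top).left s)
    exact ⟨_, surj_of_isPullback (hsq _) ⟨r, hr⟩⟩
  · show N.obj.mapTop (χ t) ((v.hom.app x.1).app ⊤ m) = 0
    rw [StMod.Mod.mapTop_app]
    exact hvan t ⟨y t, hy t⟩ (δ t) _

/-- Relative generation descends along flat families. -/
theorem isRelGenFam_of_flat_family (h𝒳 : FibCat.IsFibGrpd 𝒳.p) (h𝒴 : AlgSt.IsAlgStack Scheme.fppfPrecoverage 𝒴)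
    (hfqc : AlgSt.IsQuasiCompactMor Scheme.fppfPrecoverage f) (hfqs : AlgSt.IsQuasiSeparatedMor f)
    {ι : Type u} (E : ι → StMod.QCoh 𝒳) (hE : ∀ i, (E i).obj.IsFinPres) {A : Type v}
    (𝒲 : A → AlgSt.Cat S) (h𝒲 : ∀ a, FibCat.IsFibGrpd (𝒲 a).p) (u : ∀ a, 𝒲 a ⥤ᵇ 𝒴)
    {P : MorphismProperty (Sp S)} (hP : P ≤ LocP @Flat) (hfl : ∀ a, AlgSt.LocQ P (u a))
    (hsurj : ∀ p : AlgSt.Points 𝒴, ∃ (a : A) (q : AlgSt.Points (𝒲 a)), AlgSt.Points.map (u a) q = p)
    (hgen : ∀ a, StMod.IsRelGenFam (FibCat.fpSnd f (u a))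
      (fun i => (StMod.comapQ (FibCat.fpFst f (u a))).obj (E i))) :
    StMod.IsRelGenFam f E := by
  refine isRelGenFam_of_flat_cover f h𝒳 h𝒴 hfqc hfqs E hE fun η _ t => ?_
  have hp := h𝒴.isStack.1
  obtain ⟨a, ζ, φ, hζ, hflat, -, ht⟩ := exists_flat_cover_of_locQ h𝒴 η 𝒲 h𝒲 u hP hfl hsurj t
  refine ⟨(u a).obj ζ, φ, isAffine_map (u a) (x := ζ) hζ, hflat, ht, ?_⟩
  haveI := fibSndFun_full f (u a) ζ hp (h𝒲 a)
  refine isGenFam_of_comap (fibSndFun f (u a) ζ)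
    (isFibGrpd_fibCat _ _ (fp_isFibGrpd h𝒳 (h𝒲 a) hp)) (isFibGrpd_fibCat f _ h𝒳)
    (fun z => fibSndFun_surj f (u a) ζ h𝒳 hp (h𝒲 a) z.1) _
    (isGenFam_of_iso (fun i => ?_) (hgen a ζ hζ))
  exact (StMod.comapCompIso (FibCat.fpFst f (u a)) (StMod.fibFst (FibCat.fpSnd f (u a)) ζ)
    (E i).obj).symm ≪≫ StMod.comapCompIso (StMod.fibFst f ((u a).obj ζ)) (fibSndFun f (u a) ζ) (E i).obj

end Groth.Agent.H9Gen
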