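import Groth.Agent.H9Gen.Push
import Groth.Agent.StModLib.FinDescent
import Groth.Prelude.Def_StMod3

/-!
# Generation along the fibres and generation on the base
-/

set_option autoImplicit false
set_option linter.style.haveILetI false
set_option linter.unusedSectionVars false
set_option backward.isDefEq.respectTransparency false
set_option backward.isDefEq.respectTransparency.types false

universe v w u

open CategoryTheory CategoryTheory.Limits AlgebraicGeometry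
open Groth.Agent.StModLib

noncomputable section

namespace Groth.Agent.H9Gen

variable {S : Scheme.{u}} {𝒵 𝒲 : AlgSt.Cat S}

theorem isFinPres_OQ (𝒵 : AlgSt.Cat S) : (StMod.OQ 𝒵).obj.IsFinPres := fun ξ => by
  have e : SheafOfModules.free (R := (StMod.sch 𝒵 ξ).ringCatSheaf) PUnit.{u + 1} ≅
      Coh.structureModule (StMod.sch 𝒵 ξ) := coproductUniqueIso _
  exact isFP_of_iso e (StMod.isFinPres_free (𝒳 := 𝒵) PUnit.{u + 1} ξ)

/-- The function one over an object, as a global section of the structure sheaf. -/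
def one (𝒵 : AlgSt.Cat S) (x : 𝒵.obj) : Γ((StMod.O 𝒵).obj x, ⊤) := (1 : Γ(StMod.sch 𝒵 x, ⊤))

theorem mapTop_one (𝒵 : AlgSt.Cat S) {x' x : 𝒵.obj} (φ : x' ⟶ x) :
    (StMod.O 𝒵).mapTop φ (one 𝒵 x) = one 𝒵 x' :=
  map_one (StMod.bmap 𝒵 φ).appTop.hom

theorem smul_one' (𝒵 : AlgSt.Cat S) {x : 𝒵.obj} (e : Γ((StMod.O 𝒵).obj x, ⊤)) :
    (show Γ(StMod.sch 𝒵 x, ⊤) from e) • one 𝒵 x = e :=
  mul_one (show Γ(StMod.sch 𝒵 x, ⊤) from e)

variable (k : 𝒵 ⥤ᵇ 𝒲)

/-- The function ring map of an object above another. -/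
abbrev sclHom (y : 𝒵.obj) {η : 𝒲.obj} (β : k.obj y ⟶ η) : Γ(StMod.sch 𝒲 η, ⊤) →+* Γ(StMod.sch 𝒵 y, ⊤) :=
  (StMod.baseOver k y β).left.appTop.hom

/-- Restriction of sections to an inverse image. -/
def cres (G : StMod.Mod 𝒲) (y : 𝒵.obj) {η : 𝒲.obj} (β : k.obj y ⟶ η) :
    Γ(G.obj η, ⊤) →+ Γ((StMod.Mod.comap k G).obj y, ⊤) :=
  (cmp k G y).symm.toAddMonoidHom.comp (res G β)

theorem cres_apply (G : StMod.Mod 𝒲) (y : 𝒵.obj) {η : 𝒲.obj} (β : k.obj y ⟶ η) (e : Γ(G.obj η, ⊤)) :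
    cres k G y β e = (cmp k G y).symm (G.mapTop β e) := rfl

theorem mapTop_cres (G : StMod.Mod 𝒲) {y' y : 𝒵.obj} (χ : y' ⟶ y) {η : 𝒲.obj} (β : k.obj y ⟶ η)
    (e : Γ(G.obj η, ⊤)) :
    (StMod.Mod.comap k G).mapTop χ (cres k G y β e) = cres k G y' (k.map χ ≫ β) e := by
  refine (cmp k G y').injective ?_
  rw [cmp_mapTop, cres_apply, cres_apply, AddEquiv.apply_symm_apply, AddEquiv.apply_symm_apply,
    StMod.Mod.mapTop_comp]

theorem cres_comp (G : StMod.Mod 𝒲) (y : 𝒵.obj) {η η' : 𝒲.obj} (β : k.obj y ⟶ η') (c : η' ⟶ η)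
    (e : Γ(G.obj η, ⊤)) : cres k G y (β ≫ c) e = cres k G y β (G.mapTop c e) := by
  rw [cres_apply, cres_apply, StMod.Mod.mapTop_comp]

theorem isSemiBC_cres (G : StMod.QCoh 𝒲) (y : Aff 𝒵) (q : Aff 𝒲) (β : k.obj y.1 ⟶ q.1) :
    IsSemiBC (sclHom k y.1 β) (cres k G.obj y.1 β) := by
  let ε := eqToHom (StMod.sch_obj_eq k y.1)
  haveI : IsAffine (StMod.sch 𝒵 y.1) := y.2
  let ky : Aff 𝒲 := ⟨k.obj y.1, IsAffine.of_isIso ε⟩
  have hcmp : ∀ (r : Γ(StMod.sch 𝒲 (k.obj y.1), ⊤)) (n : Γ(G.obj.obj (k.obj y.1), ⊤)),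
      (cmp k G.obj y.1).symm.toAddMonoidHom (r • n) =
        (inv ε).appTop.hom r • (cmp k G.obj y.1).symm.toAddMonoidHom n := fun r n => by
    apply (cmp k G.obj y.1).injective
    show cmp k G.obj y.1 ((cmp k G.obj y.1).symm (r • n)) = cmp k G.obj y.1 (_ • (cmp k G.obj y.1).symm n)
    rw [AddEquiv.apply_symm_apply, cmp_smul, AddEquiv.apply_symm_apply]
    refine congrArg (fun t : Γ(StMod.sch 𝒲 (k.obj y.1), ⊤) => t • n) ?_
    show r = (ε ≫ inv ε).appTop r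
    rw [IsIso.hom_inv_id]
    rfl
  have hb : (StMod.baseOver k y.1 β).left = inv ε ≫ StMod.bmap 𝒲 β := by
    simp [StMod.baseOver, ε, StMod.bmap]
  have hσ : sclHom k y.1 β = (inv ε).appTop.hom.comp (fn β) := by
    show (StMod.baseOver k y.1 β).left.appTop.hom = _
    rw [hb]
    rfl
  rw [hσ]
  exact (isSemiBC_res G (y := ky) (z := q) β).comp (isSemiBC_of_bijective hcmp
    (ConcreteCategory.bijective_of_isIso (inv ε).appTop) (cmp k G.obj y.1).symm.bijective)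

/-- A morphism killing all compatible families over `η` out of generators of the fibre vanishes above `η`. -/
theorem app_eq_zero_of_genFib (hp : FibCat.IsFibGrpd 𝒵.p) {k : 𝒵 ⥤ᵇ 𝒲} {η : 𝒲.obj} {ι : Type v}
    (E : ι → StMod.QCoh 𝒵)
    (hgen : StMod.IsGenFam fun i => (StMod.comapQ (StMod.fibFst k η)).obj (E i)) {M N : StMod.QCoh 𝒵}
    (u : M ⟶ N) (hkill : ∀ i (s : HomSect k (E i).obj M.obj η), HomSect.post u.hom s = 0) (x : Aff 𝒵)
    (β : k.obj x.1 ⟶ η) (m : Γ(M.obj.obj x.1, ⊤)) : (u.hom.app x.1).app ⊤ m = 0 := by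
  let J := StMod.fibFst k η
  have h0 : (StMod.comapQ J).map u = 0 := (StMod.isGenFam_iff _).1 hgen _ fun i φ => by
    let s : HomSect k (E i).obj M.obj η :=
      ⟨fun x β => (NatFam.ofHom φ).1 ⟨CostructuredArrow.mk β, x.2⟩, fun x' x f β e => by
        let χ : (CostructuredArrow.mk (k.map f ≫ β) : (StMod.fibCat k η).obj) ⟶ CostructuredArrow.mk β :=
          CostructuredArrow.homMk f rfl
        exact (cmp_mapTop J M.obj χ _).symm.trans (((NatFam.ofHom φ).2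
          (x' := ⟨CostructuredArrow.mk (k.map f ≫ β), x'.2⟩) (x := ⟨CostructuredArrow.mk β, x.2⟩) χ e).trans
          (congrArg _ (cmp_mapTop J (E i).obj χ e)))⟩
    exact congrArg InducedCategory.Hom.hom (hom_ext_aff (isFibGrpd_fibCat k η hp)
      (u := ObjectProperty.homMk φ ≫ (StMod.comapQ J).map u) (v := 0) fun y e =>
        (congrArg (fun t : HomSect k (E i).obj N.obj η => t.1 (affLeft y) y.1.hom e) (hkill i s)))
  exact congrArg (fun t : (StMod.comapQ J).obj M ⟶ (StMod.comapQ J).obj N =>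
    (t.hom.app (CostructuredArrow.mk β)).app ⊤ m) h0

variable (hp : FibCat.IsFibGrpd 𝒵.p) (hp' : FibCat.IsFibGrpd 𝒲.p) {x₀ : 𝒲.obj}

include hp hp' in
/-- A morphism vanishing above the flat members vanishes. -/
theorem eq_zero_of_flatMem (k : 𝒵 ⥤ᵇ 𝒲) (hd : IsDenseObj x₀) {M N : StMod.QCoh 𝒵} (u : M ⟶ N)
    (h : ∀ (p : FMem x₀) (x : Aff 𝒵) (_ : k.obj x.1 ⟶ p.1) (m : Γ(M.obj.obj x.1, ⊤)),
      (u.hom.app x.1).app ⊤ m = 0) : u = 0 := by
  refine hom_ext_aff hp fun x m => ?_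
  show (u.hom.app x.1).app ⊤ m = 0
  obtain ⟨ι, t, g, hg⟩ := isDense_dMem hp' hd (k.obj x.1)
  obtain ⟨y', φ', n, hy', -⟩ := exists_cov_lift k hp hp' hg
  obtain ⟨μ, i, v, χ, hv⟩ := exists_aff_refine hp hy'
  refine (isSheaf_modSys hp N.property).1 _ _ hv _ _ fun l => ?_
  show N.obj.mapTop (χ l ≫ φ' (i l)) _ = N.obj.mapTop (χ l ≫ φ' (i l)) 0
  rw [StMod.Mod.mapTop_app, StMod.Mod.mapTop_zero]
  exact h (dp (t (i l))) (v l) (k.map (χ l) ≫ n (i l) ≫ da (t (i l))) _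

include hp hp' in
/-- Generators of the fibres over the flat members generate, when the structure sheaf generates the base. -/
theorem isGenFam_of_structureSheaf_base (k : 𝒵 ⥤ᵇ 𝒲) (P : PairAtlas x₀) (hd : IsDenseObj x₀)
    (hpres : ∀ η : 𝒲.obj, IsAffine (StMod.sch 𝒲 η) → Nonempty (Pres k η)) {ι : Type v}
    (E : ι → StMod.QCoh 𝒵) (hE : ∀ i, (E i).obj.IsFinPres)
    (hfib : ∀ p : FMem x₀, StMod.IsGenFam fun i => (StMod.comapQ (StMod.fibFst k p.1)).obj (E i))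
    (hO : StMod.IsGenFam fun _ : PUnit.{u + 1} => StMod.OQ 𝒲) : StMod.IsGenFam E := by
  refine (StMod.isGenFam_iff E).2 fun M N u hu => ?_
  refine eq_zero_of_flatMem hp hp' k hd u fun p x β m => app_eq_zero_of_genFib hp E (hfib p) u (fun i => ?_) x β m
  revert p
  suffices ∀ (p : FMem x₀) (s : HomSect k (E i).obj M.obj p.1), HomSect.post u.hom s = 0 from
    fun p _ => this p
  refine post_eq_zero_of_gen k hp hp' (E i) (hE i) P hd hpres _ hO u fun _ s hs p e => ?_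
  let s₁ : ∀ q : FMem x₀, HomSect k (E i).obj M.obj q.1 := fun q => s q (one 𝒲 q.1)
  obtain ⟨n, hn⟩ := exists_natFam_of_flatMem k hp hp' P hd M.property s₁ fun {q q'} f =>
    (hs f _).trans (congrArg (s q) (mapTop_one 𝒲 f))
  obtain ⟨a, ha⟩ := exists_hom_natFam hp M.property n
  have h1 : HomSect.post u.hom (s₁ p) = 0 := HomSect.ext fun y γ e => by
    show (u.hom.app y.1).app ⊤ ((s₁ p).1 y γ e) = 0
    rw [← hn p y γ, ← ha y e]
    exact congrArg (fun t : (E i).obj ⟶ N.obj => (t.app y.1).app ⊤ e) (hu i a)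
  rw [← smul_one' 𝒲 e]
  show HomSect.post u.hom (s p (_ • one 𝒲 p.1)) = 0
  rw [map_smul, map_smul]
  exact (congrArg _ h1).trans (smul_zero _)

set_option maxHeartbeats 800000 in
include hp hp' in
/-- The inverse images of generators of the base generate, when the structure sheaf generates the fibres. -/
theorem isGenFam_comap_of_structureSheaf_fib (k : 𝒵 ⥤ᵇ 𝒲) (P : PairAtlas x₀) (hd : IsDenseObj x₀)
    (hpres : ∀ η : 𝒲.obj, IsAffine (StMod.sch 𝒲 η) → Nonempty (Pres k η)) {ι : Type v}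
    (F : ι → StMod.QCoh 𝒲)
    (hfib : ∀ p : FMem x₀, StMod.IsGenFam
      fun _ : PUnit.{u + 1} => (StMod.comapQ (StMod.fibFst k p.1)).obj (StMod.OQ 𝒵))
    (hF : StMod.IsGenFam F) : StMod.IsGenFam fun j => (StMod.comapQ k).obj (F j) := by
  refine (StMod.isGenFam_iff _).2 fun M N u hu => ?_
  refine eq_zero_of_flatMem hp hp' k hd u fun p x β m =>
    app_eq_zero_of_genFib hp (fun _ : PUnit.{u + 1} => StMod.OQ 𝒵) (hfib p) u (fun _ => ?_) x β m
  revert p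
  suffices ∀ (p : FMem x₀) (s : HomSect k (StMod.O 𝒵) M.obj p.1), HomSect.post u.hom s = 0 from
    fun p _ => this p
  refine post_eq_zero_of_gen k hp hp' (StMod.OQ 𝒵) (isFinPres_OQ 𝒵) P hd hpres F hF u fun j s hs p e => ?_
  let T := fun y : Aff 𝒵 => Σ q : FMem x₀, (k.obj y.1 ⟶ q.1)
  let Q : FMem x₀ → Aff 𝒲 := fun q => ⟨q.1, q.2.1⟩
  have hex : ∀ (y : Aff 𝒵) (c : T y),
      ∃ op : Γ((StMod.Mod.comap k (F j).obj).obj y.1, ⊤) →ₗ[Γ(StMod.sch 𝒵 y.1, ⊤)] Γ(M.obj.obj y.1, ⊤),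
        ∀ e, op (cres k (F j).obj y.1 c.2 e) = (s c.1 e).1 y c.2 (one 𝒵 y.1) := by
    intro y c
    obtain ⟨g, hg, hgl⟩ := (isSemiBC_cres k (F j) y (Q c.1) c.2).exists_lift (RingHom.id _)
      (AddMonoidHom.mk' (fun e => (s c.1 e).1 y c.2 (one 𝒵 y.1)) fun e e' => by rw [map_add]; rfl) fun r e => by
        show (s c.1 (r • e)).1 y c.2 (one 𝒵 y.1) = _
        rw [map_smul, HomSect.smul_apply]
        rfl
    exact ⟨{ toFun := g, map_add' := map_add g, map_smul' := hg }, hgl⟩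
  choose op hop using hex
  have hpull : ∀ {y' y : Aff 𝒵} (χ : y'.1 ⟶ y.1) (c : T y) (e : Γ((StMod.Mod.comap k (F j).obj).obj y.1, ⊤)),
      M.obj.mapTop χ (op y c e) =
        op y' ⟨c.1, k.map χ ≫ c.2⟩ ((StMod.Mod.comap k (F j).obj).mapTop χ e) := by
    intro y' y χ c e
    refine congr($((isSemiBC_cres k (F j) y (Q c.1) c.2).ext
      (τ := (StMod.bmap 𝒵 χ).appTop.hom)
      (g := (res M.obj χ).comp (op y c).toAddMonoidHom)
      (g' := (op y' ⟨c.1, k.map χ ≫ c.2⟩).toAddMonoidHom.comp (res (StMod.Mod.comap k (F j).obj) χ))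
      (fun r n => ?_) (fun r n => ?_) fun m => ?_) e)
    · show M.obj.mapTop χ (op y c (r • n)) = _
      rw [map_smul, StMod.Mod.mapTop_smul]
      rfl
    · show op y' _ ((StMod.Mod.comap k (F j).obj).mapTop χ (r • n)) = _
      rw [StMod.Mod.mapTop_smul, map_smul]
      rfl
    · show M.obj.mapTop χ (op y c (cres k (F j).obj y.1 c.2 m)) =
        op y' _ ((StMod.Mod.comap k (F j).obj).mapTop χ (cres k (F j).obj y.1 c.2 m))
      rw [hop, mapTop_cres, hop]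
      exact ((s c.1 m).nat χ c.2 _).trans (congrArg _ (mapTop_one 𝒵 χ))
  obtain ⟨n, hn⟩ := exists_natFam_of_charts hp (E := StMod.Mod.comap k (F j).obj) (M := M.obj) M.property T op
    (fun y' y χ c => ⟨_, hpull χ c⟩)
    (fun y a b => by
      obtain ⟨κ, R, c, d, -, -, hcov, -⟩ := exists_pair hp' P a.1 b.1
      obtain ⟨ι, z, φ, hφ, hz⟩ := hcov (k.obj y.1) a.2 b.2
      obtain ⟨y', φ', m, hy', hm⟩ := exists_cov_lift k hp hp' hφ
      obtain ⟨μ, i, v, χ, hv⟩ := exists_aff_refine hp hy'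
      refine LinearMap.ext fun e => (isSheaf_modSys hp M.property).1 _ _ hv _ _ fun l => ?_
      obtain ⟨-, r, g, hg₁, hg₂⟩ := hz (i l)
      let γ := k.map (χ l) ≫ m (i l) ≫ g
      have key : ∀ (c : T y) (q : (R r).1 ⟶ c.1.1), g ≫ q = φ (i l) ≫ c.2 →
          op (v l) ⟨c.1, k.map (χ l ≫ φ' (i l)) ≫ c.2⟩ = op (v l) ⟨R r, γ⟩ := fun c q hq => by
        have hγ : k.map (χ l ≫ φ' (i l)) ≫ c.2 = γ ≫ q := by
          show _ = (k.map (χ l) ≫ m (i l) ≫ g) ≫ q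
          rw [Category.assoc, Category.assoc, hq, ← Category.assoc (m (i l)), hm, Functor.map_comp, Category.assoc]
        refine linearMap_ext_semiBC
          (isSemiBC_cres k (F j) (v l) (Q c.1) (k.map (χ l ≫ φ' (i l)) ≫ c.2)) fun e₀ => ?_
        rw [hop (v l) ⟨c.1, k.map (χ l ≫ φ' (i l)) ≫ c.2⟩ e₀]
        rw [hγ, cres_comp]
        erw [hop (v l) ⟨R r, γ⟩]
        rw [← hs q e₀]
        rfl
      show M.obj.mapTop (χ l ≫ φ' (i l)) (op y a e) = M.obj.mapTop (χ l ≫ φ' (i l)) (op y b e)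
      rw [hpull, hpull, key a (c r) hg₁, key b (d r) hg₂])
    (fun y => by
      obtain ⟨ι, t, g, hg⟩ := isDense_dMem hp' hd (k.obj y.1)
      obtain ⟨y', φ', m, hy', hm⟩ := exists_cov_lift k hp hp' hg
      obtain ⟨μ, i, v, χ, hv⟩ := exists_aff_refine hp hy'
      exact ⟨μ, v, _, hv, fun l => ⟨⟨dp (t (i l)), k.map (χ l) ≫ m (i l) ≫ da (t (i l))⟩⟩⟩)
  obtain ⟨a, ha⟩ := exists_hom_natFam hp M.property n
  refine HomSect.ext fun y γ z => ?_
  show (u.hom.app y.1).app ⊤ ((s p e).1 y γ z) = 0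
  have h1 : (u.hom.app y.1).app ⊤ ((s p e).1 y γ (one 𝒵 y.1)) = 0 := by
    rw [← hop y ⟨p, γ⟩ e, ← hn y ⟨p, γ⟩, ← ha y]
    exact congrArg (fun t : StMod.Mod.comap k (F j).obj ⟶ N.obj => (t.app y.1).app ⊤ _) (hu j a)
  rw [← smul_one' 𝒵 z, map_smul, Scheme.Modules.Hom.app_smul, h1]
  exact smul_zero _

end Groth.Agent.H9Gen
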