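import Groth.Agent.H9Gen.Graph
import Groth.Agent.AlgStLib.Charts
import Groth.Agent.AlgSpLib.EtLocalInst

/-!
# Flat families over a stack give flat coverings of affine objects, and detect relative generation
-/

set_option autoImplicit false
set_option linter.style.haveILetI false
set_option linter.unusedSectionVars false
set_option backward.isDefEq.respectTransparency false
set_option backward.isDefEq.respectTransparency.types false

universe v u

open CategoryTheory CategoryTheory.Limits AlgebraicGeometry AlgSp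
open Groth.Agent.StModLib Groth.Agent.AlgStLib Groth.Agent.AlgSpLib Groth.Agent.FibBase
open scoped TensorProduct

noncomputable section

namespace Groth.Agent.H9Gen

variable {S : Scheme.{u}} {𝒳 𝒴 𝒴' : AlgSt.Cat S}

/-- Flat charts jointly surjective on points give an affine flat covering of every object. -/
theorem exists_flat_cover_of_charts (h𝒴 : FibCat.IsFibGrpd 𝒴.p) (η : 𝒴.obj) {A : Type v} (U : A → Over S)
    (w : ∀ a, FibCat.overCat (U a) ⥤ᵇ 𝒴) (hw : ∀ a, AlgSt.RepByAlgSpWith (LocP @Flat) (w a))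
    (hsurj : ∀ p : AlgSt.Points 𝒴, ∃ (a : A) (s : (U a).left), AlgSt.Points.ofChart (w a) s = p) :
    ∀ t : StMod.sch 𝒴 η, ∃ (a : A) (z : 𝒴.obj) (φ : z ⟶ η) (_ : z ⟶ (w a).obj (topOver (U a))),
      IsAffine (StMod.sch 𝒴 z) ∧ Flat (StMod.bmap 𝒴 φ) ∧
      ((∀ a, AlgSt.RepByAlgSpWith (LocP @LocallyOfFinitePresentation) (w a)) →
        LocallyOfFinitePresentation (StMod.bmap 𝒴 φ)) ∧ t ∈ Set.range (StMod.bmap 𝒴 φ) := by
  obtain ⟨G, e, he⟩ := exists_overCat_obj h𝒴 η rfl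
  intro t
  obtain ⟨a, s, hs⟩ := hsurj (AlgSt.Points.ofChart G t)
  obtain ⟨W, k, l, ⟨i⟩, hpts, hR, -⟩ := exists_chart_fp h𝒴 G (repByAlgSp1_of_repByAlgSpWith (hw a))
  obtain ⟨r, hr, -⟩ := hpts t s hs.symm
  obtain ⟨B, hB, hrB, -⟩ := exists_isAffineOpen_mem_and_subset (U := (⊤ : W.left.Opens))
    (trivial : r ∈ (⊤ : W.left.Opens))
  let j : Over.mk (B.ι ≫ W.hom) ⟶ W := Over.homMk B.ι rfl
  let o : (FibCat.overCat W : AlgSt.Cat S).obj := Over.mk j
  let V : (FibCat.overCat (𝒴.p.obj η) : AlgSt.Cat S).obj := Over.mk (j ≫ k)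
  let top : V ⟶ topOver (𝒴.p.obj η) := Over.homMk (j ≫ k) (Category.comp_id _)
  let θ := ((BasedNatTrans.forgetful _ _).mapIso i).app o
  let top' : (Over.mk (j ≫ l) : (FibCat.overCat (U a) : AlgSt.Cat S).obj) ⟶ topOver (U a) :=
    Over.homMk (j ≫ l) (Category.comp_id _)
  haveI : ∀ {A B : Over S} (e : A = B), IsIso (eqToHom e).left := fun e =>
    inferInstanceAs (IsIso ((Over.forget S).map (eqToHom e)))
  haveI := he
  have hbm : StMod.bmap 𝒴 (G.map top ≫ e.hom) =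
      ((eqToHom (G.w_obj V)).left ≫ B.ι) ≫ k.left := by
    show (𝒴.p.map (G.map top ≫ e.hom)).left = _
    rw [Functor.map_comp, map_w G top, IsHomLift.fac' 𝒴.p (𝟙 (𝒴.p.obj η)) e.hom,
      show (FibCat.overCat (𝒴.p.obj η)).p.map top = j ≫ k from rfl]
    simp
    rfl
  refine ⟨a, G.obj V, G.map top ≫ e.hom, θ.hom ≫ (w a).map top', ?_, ?_, fun hlfp => ?_, ?_⟩
  · exact isAffine_map G (x := V) hB
  · haveI : Flat k.left := hR @Flat (fun _ _ f (_ : Etale f) => inferInstanceAs (Flat f)) (hw a)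
    rw [hbm]
    infer_instance
  · haveI : LocallyOfFinitePresentation k.left := hR @LocallyOfFinitePresentation
      (fun _ _ f (_ : Etale f) => inferInstanceAs (LocallyOfFinitePresentation f)) (hlfp a)
    rw [hbm]
    infer_instance
  · let ε : StMod.sch 𝒴 (G.obj V) ⟶ (B : Scheme.{u}) := (eqToHom (G.w_obj V)).left
    haveI : IsIso ε := inferInstanceAs (IsIso (eqToHom (G.w_obj V)).left)
    refine ⟨inv ε ⟨r, hrB⟩, ?_⟩
    rw [hbm]
    show k.left (B.ι (ε (inv ε ⟨r, hrB⟩))) = t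
    rw [show ε (inv ε ⟨r, hrB⟩) = ⟨r, hrB⟩ by rw [← Scheme.Hom.comp_apply, IsIso.inv_hom_id]; rfl]
    exact hr

/-- A family locally flat and jointly surjective on points gives an affine flat covering of every object by images
of objects. -/
theorem exists_flat_cover_of_locQ (h𝒴 : AlgSt.IsAlgStack Scheme.fppfPrecoverage 𝒴) (η : 𝒴.obj) {A : Type v}
    (𝒴' : A → AlgSt.Cat S) (h𝒴' : ∀ a, FibCat.IsFibGrpd (𝒴' a).p) (u : ∀ a, 𝒴' a ⥤ᵇ 𝒴)
    {P : MorphismProperty (Sp S)} (hP : P ≤ LocP @Flat) (hfl : ∀ a, AlgSt.LocQ P (u a))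
    (hsurj : ∀ p : AlgSt.Points 𝒴, ∃ (a : A) (q : AlgSt.Points (𝒴' a)), AlgSt.Points.map (u a) q = p) :
    ∀ t : StMod.sch 𝒴 η, ∃ (a : A) (ζ : (𝒴' a).obj) (φ : (u a).obj ζ ⟶ η),
      IsAffine (StMod.sch (𝒴' a) ζ) ∧ Flat (StMod.bmap 𝒴 φ) ∧
      (P ≤ LocP @LocallyOfFinitePresentation → LocallyOfFinitePresentation (StMod.bmap 𝒴 φ)) ∧
      t ∈ Set.range (StMod.bmap 𝒴 φ) := by
  have hp := h𝒴.isStack.1
  choose U V x y h i hxs hxsu hys hh using hfl
  let w : ∀ a, FibCat.overCat (U a) ⥤ᵇ 𝒴 := fun a => BasedFunctor.comp (x a) (u a)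
  have hwR : ∀ (R : MorphismProperty Scheme.{u}) [IsEtLocal R] [R.IsStableUnderComposition]
      (_ : ∀ a, AlgSt.RepByAlgSpWith (LocP R) (y a)) (_ : ∀ a, LocP R ((yon S).map (h a))),
      ∀ a, AlgSt.RepByAlgSpWith (LocP R) (w a) := fun R _ _ hy hR a =>
    repByAlgSpWith_of_iso (i a).symm (repByAlgSpWith_locP_comp (isFibGrpd_overCat (U a)) (isFibGrpd_overCat (V a))
      (repByAlgSpWith_overMap stableBC_locP (hR a)) (hy a))
  have hw := hwR @Flat (fun a => repByAlgSpWith_flat_of_smooth (hys a)) (fun a => hP _ (hh a))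
  have hsurj' : ∀ p : AlgSt.Points 𝒴, ∃ (a : A) (s : (U a).left), AlgSt.Points.ofChart (w a) s = p := fun p => by
    obtain ⟨a, q, rfl⟩ := hsurj p
    obtain ⟨s, rfl⟩ := ofChart_surjective (h𝒴' a) (hxsu a) q
    exact ⟨a, s, (map_ofChart (u a) (x a) s).symm⟩
  intro t
  obtain ⟨a, z, φ, θ, hz, hfl, hlfp, ht⟩ := exists_flat_cover_of_charts hp η U w hw hsurj' t
  obtain ⟨ζ, θ', e, -, -, hθ⟩ := exists_lift_map (u a) (h𝒴' a) hp (x := (x a).obj (topOver (U a))) θ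
  haveI : IsIso (StMod.bmap 𝒴 e.inv) := inferInstanceAs (IsIso (𝒴.p.map e.inv).left)
  haveI := hfl
  refine ⟨a, ζ, e.inv ≫ φ, ?_, ?_, fun hP' => ?_, ?_⟩
  · haveI := hz
    haveI : IsAffine (StMod.sch 𝒴 ((u a).obj ζ)) := IsAffine.of_isIso (StMod.bmap 𝒴 e.inv)
    exact IsAffine.of_isIso (inv (eqToHom (StMod.sch_obj_eq (u a) ζ)))
  · rw [StMod.bmap_comp]
    infer_instance
  · haveI := hlfp (hwR @LocallyOfFinitePresentation (fun a => repByAlgSpWith_lfp_of_smooth (hys a))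
      (fun a => hP' _ (hh a)))
    rw [StMod.bmap_comp]
    infer_instance
  · obtain ⟨r, hr⟩ := ht
    refine ⟨inv (StMod.bmap 𝒴 e.inv) r, ?_⟩
    rw [StMod.bmap_comp, ← Scheme.Hom.comp_apply, IsIso.inv_hom_id_assoc]
    exact hr

end Groth.Agent.H9Gen
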