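import Groth.Agent.H9Gen.Transfer
import Groth.Agent.StModLib.PresExist
import Groth.Agent.StModLib.FibObj
import Groth.Agent.AlgStLib.Stack
import Groth.Agent.AlgStLib.LocQ

/-!
# The categories over an object: functors between them, presentations and atlases
-/

set_option autoImplicit false
set_option linter.style.haveILetI false
set_option linter.unusedSectionVars false
set_option backward.isDefEq.respectTransparency false
set_option backward.isDefEq.respectTransparency.types false

universe v u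

open CategoryTheory CategoryTheory.Limits AlgebraicGeometry AlgSp
open Groth.Agent.StModLib Groth.Agent.AlgStLib Groth.Agent.FibBase

noncomputable section

namespace Groth.Agent.H9Gen

variable {S : Scheme.{u}} {𝒳 𝒴 𝒵 : AlgSt.Cat S}

/-- Generating families transport along isomorphisms of the members. -/
theorem isGenFam_of_iso {ι : Type v} {E E' : ι → StMod.QCoh 𝒳} (e : ∀ i, (E i).obj ≅ (E' i).obj)
    (h : StMod.IsGenFam E) : StMod.IsGenFam E' :=
  (StMod.isGenFam_iff E').2 fun _ _ u hu => (StMod.isGenFam_iff E).1 h u fun i φ => by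
    rw [← (e i).hom_inv_id_assoc φ, Category.assoc, hu i ((e i).inv ≫ φ), comp_zero]

variable (f : 𝒳 ⥤ᵇ 𝒴) (g : 𝒴 ⥤ᵇ 𝒵) (η : 𝒵.obj)

/-- The functor between the categories over `η`. -/
def resF : StMod.fibCat (BasedFunctor.comp f g) η ⥤ᵇ StMod.fibCat g η where
  toFunctor := CostructuredArrow.pre f.toFunctor g.toFunctor η
  w := congrArg (fun F => CostructuredArrow.proj (BasedFunctor.comp f g).toFunctor η ⋙ F) f.w

variable {g η} (ζ : (StMod.fibCat g η).obj)

/-- An object of the source of `f` over `ζ.left` as an object over `η`. -/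
abbrev upObj {ξ : 𝒳.obj} (γ : f.obj ξ ⟶ ζ.left) : (StMod.fibCat (BasedFunctor.comp f g) η).obj :=
  CostructuredArrow.mk (Y := ξ) (g.map γ ≫ ζ.hom)

/-- Its structure morphism to `ζ`. -/
abbrev upHom {ξ : 𝒳.obj} (γ : f.obj ξ ⟶ ζ.left) : (resF f g η).obj (upObj f ζ γ) ⟶ ζ :=
  CostructuredArrow.homMk γ rfl

/-- The category over `ζ.left` is the fibre over `ζ`. -/
def fibUp : StMod.fibCat f ζ.left ⥤ᵇ StMod.fibCat (resF f g η) ζ where
  toFunctor :=
    { obj := fun x => CostructuredArrow.mk (upHom f ζ x.hom)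
      map := fun {x' x} φ =>
        let χ : upObj f ζ x'.hom ⟶ upObj f ζ x.hom := CostructuredArrow.homMk φ.left (by
          show g.map (f.map φ.left) ≫ g.map x.hom ≫ ζ.hom = g.map x'.hom ≫ ζ.hom
          rw [← Category.assoc, ← Functor.map_comp, CostructuredArrow.w φ])
        CostructuredArrow.homMk χ (CostructuredArrow.hom_ext _ _ (CostructuredArrow.w φ)) }
  w := rfl

instance : (fibUp f ζ).toFunctor.Full where
  map_surjective {x' x} m := by
    refine ⟨CostructuredArrow.homMk m.left.left ?_, ?_⟩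
    · exact congrArg CommaMorphism.left (CostructuredArrow.w m)
    · exact CostructuredArrow.hom_ext _ _ (CostructuredArrow.hom_ext _ _ rfl)

theorem fibUp_surj (b : (StMod.fibCat (resF f g η) ζ).obj) : ∃ a, Nonempty ((fibUp f ζ).obj a ≅ b) := by
  let γ : f.obj b.left.left ⟶ ζ.left := b.hom.left
  let e : upObj f ζ γ ≅ b.left := CostructuredArrow.isoMk (Iso.refl _) (by
    show g.map (f.map (𝟙 b.left.left)) ≫ b.left.hom = g.map γ ≫ ζ.hom
    rw [f.map_id, g.map_id, Category.id_comp]
    exact (CostructuredArrow.w b.hom).symm)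
  exact ⟨CostructuredArrow.mk γ, ⟨CostructuredArrow.isoMk e (CostructuredArrow.hom_ext _ _ (by
    show f.map (𝟙 b.left.left) ≫ γ = γ
    rw [f.map_id, Category.id_comp]))⟩⟩

/-- Generators over `ζ.left` generate the fibre over `ζ`. -/
theorem isGenFam_resF_fib (hp : FibCat.IsFibGrpd 𝒳.p) {ι : Type v} (E : ι → StMod.QCoh 𝒳)
    (h : StMod.IsGenFam fun i => (StMod.comapQ (StMod.fibFst f ζ.left)).obj (E i)) :
    StMod.IsGenFam fun i => (StMod.comapQ (StMod.fibFst (resF f g η) ζ)).obj
      ((StMod.comapQ (StMod.fibFst (BasedFunctor.comp f g) η)).obj (E i)) := by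
  refine isGenFam_of_comap (fibUp f ζ) (isFibGrpd_fibCat f ζ.left hp)
    (isFibGrpd_fibCat _ ζ (isFibGrpd_fibCat _ η hp)) (fun b => fibUp_surj f ζ b.1) _
    (isGenFam_of_iso (fun i => ?_) h)
  exact (StMod.comapCompIso (StMod.fibFst (BasedFunctor.comp f g) η)
    (BasedFunctor.comp (fibUp f ζ) (StMod.fibFst (resF f g η) ζ)) (E i).obj) ≪≫
    StMod.comapCompIso (StMod.fibFst (resF f g η) ζ) (fibUp f ζ) _

/-- A presentation over `ζ.left` presents the fibre over `ζ`. -/
theorem nonempty_pres_resF (c : Pres f ζ.left) : Nonempty (Pres (resF f g η) ζ) := by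
  let w : Fin c.n → (StMod.fibCat (BasedFunctor.comp f g) η).obj := fun j => upObj f ζ (f.map (c.a j) ≫ c.α)
  let a : ∀ j, w j ⟶ upObj f ζ c.α := fun j => CostructuredArrow.homMk (c.a j) (by
    show g.map (f.map (c.a j)) ≫ g.map c.α ≫ ζ.hom = g.map (f.map (c.a j) ≫ c.α) ≫ ζ.hom
    rw [← Category.assoc, ← Functor.map_comp])
  let b : ∀ j, w j ⟶ upObj f ζ c.α := fun j => CostructuredArrow.homMk (c.b j) (by
    show g.map (f.map (c.b j)) ≫ g.map c.α ≫ ζ.hom = g.map (f.map (c.a j) ≫ c.α) ≫ ζ.hom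
    rw [← Category.assoc, ← Functor.map_comp, c.eq])
  refine ⟨{ z := upObj f ζ c.α, affz := c.affz, α := upHom f ζ c.α, n := c.n, w := w, affw := c.affw,
            a := a, b := b, eq := fun j => CostructuredArrow.hom_ext _ _ (c.eq j), cov := fun x δ => ?_,
            rel := fun y p q h => ?_ }⟩
  · obtain ⟨ι, y, φ, hc, hψ⟩ := c.cov x.left δ.left
    refine ⟨ι, fun i => CostructuredArrow.mk ((BasedFunctor.comp f g).map (φ i) ≫ x.hom),
      fun i => CostructuredArrow.homMk (φ i) rfl, isCov_fibCat hc, fun i => ?_⟩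
    obtain ⟨ψ, hψ⟩ := hψ i
    refine ⟨CostructuredArrow.homMk ψ ?_, CostructuredArrow.hom_ext _ _ hψ⟩
    show g.map (f.map ψ) ≫ g.map c.α ≫ ζ.hom = g.map (f.map (φ i)) ≫ x.hom
    rw [← Category.assoc, ← Functor.map_comp, hψ, Functor.map_comp, Category.assoc]
    exact congrArg (g.map (f.map (φ i)) ≫ ·) (CostructuredArrow.w δ)
  · obtain ⟨ι, y', φ, hc, hj⟩ := c.rel y.left p.left q.left (congrArg CommaMorphism.left h)
    refine ⟨ι, fun i => CostructuredArrow.mk ((BasedFunctor.comp f g).map (φ i) ≫ y.hom),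
      fun i => CostructuredArrow.homMk (φ i) rfl, isCov_fibCat hc, fun i => ?_⟩
    obtain ⟨j, d, ha, hb⟩ := hj i
    refine ⟨j, CostructuredArrow.homMk d ?_, CostructuredArrow.hom_ext _ _ ha, CostructuredArrow.hom_ext _ _ hb⟩
    show g.map (f.map d) ≫ g.map (f.map (c.a j) ≫ c.α) ≫ ζ.hom = g.map (f.map (φ i)) ≫ y.hom
    have e1 : f.map d ≫ f.map (c.a j) ≫ c.α = f.map (φ i) ≫ f.map p.left ≫ c.α := by
      rw [← Category.assoc, ← Functor.map_comp, ha, Functor.map_comp, Category.assoc]
    rw [← Category.assoc, ← Functor.map_comp, e1, Functor.map_comp, Category.assoc]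
    refine congrArg (g.map (f.map (φ i)) ≫ ·) ?_
    show g.map (f.map p.left ≫ c.α) ≫ ζ.hom = y.hom
    rw [Functor.map_comp, Category.assoc]
    exact CostructuredArrow.w p

end Groth.Agent.H9Gen
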