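import Groth.Agent.H9Gen.Atlas

/-!
# Relative generation and composition
-/

set_option autoImplicit false
set_option linter.style.haveILetI false
set_option linter.unusedSectionVars false
set_option backward.isDefEq.respectTransparency false
set_option backward.isDefEq.respectTransparency.types false

universe v u

open CategoryTheory CategoryTheory.Limits AlgebraicGeometry AlgSp
open Groth.Agent.StModLib Groth.Agent.AlgStLib Groth.Agent.FibBase

noncomputable section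

namespace Groth.Agent.H9Gen

variable {S : Scheme.{u}} {𝒳 𝒴 𝒵 : AlgSt.Cat S}

theorem isFP_castMod {X T : Scheme.{u}} (h : X = T) {M : X.Modules}
    (hM : SheafOfModules.IsFinitePresentation (R := X.ringCatSheaf) M) :
    SheafOfModules.IsFinitePresentation (R := T.ringCatSheaf) (StMod.castMod h M) := by
  subst h; exact hM

theorem isFinPres_comap (f : 𝒳 ⥤ᵇ 𝒴) {E : StMod.Mod 𝒴} (h : E.IsFinPres) : (StMod.Mod.comap f E).IsFinPres :=
  fun x => isFP_castMod _ (h (f.obj x))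

/-- The relative generators of a composite: generators of the first morphism, when the structure sheaf generates
relative to the second. -/
theorem isRelGenFam_comp (h𝒳 : FibCat.IsFibGrpd 𝒳.p) (h𝒴 : AlgSt.IsAlgStack Scheme.fppfPrecoverage 𝒴)
    (h𝒵 : AlgSt.IsAlgStack Scheme.fppfPrecoverage 𝒵)
    (f : 𝒳 ⥤ᵇ 𝒴) (hfqc : AlgSt.IsQuasiCompactMor Scheme.fppfPrecoverage f) (hfqs : AlgSt.IsQuasiSeparatedMor f)
    (g : 𝒴 ⥤ᵇ 𝒵) {ι : Type u} (E : ι → StMod.QCoh 𝒳) (hE : ∀ i, (E i).obj.IsFinPres)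
    (hE' : StMod.IsRelGenFam f E) (hO : StMod.IsRelGenFam g (fun _ : PUnit.{u + 1} => StMod.OQ 𝒴)) :
    StMod.IsRelGenFam (BasedFunctor.comp f g) E := by
  intro η hη
  have hp := h𝒴.isStack.1
  obtain ⟨x₀, ⟨P⟩, hd⟩ := exists_atlas_fibCat g h𝒵 h𝒴 η
  refine isGenFam_of_structureSheaf_base (isFibGrpd_fibCat _ η h𝒳) (isFibGrpd_fibCat g η hp) (resF f g η) P hd
    (fun ζ hζ => ?_) _ (fun i => isFinPres_comap _ (hE i)) (fun p => isGenFam_resF_fib f p.1 h𝒳 E (hE' _ p.2.1))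
    (isGenFam_of_iso (fun _ => StMod.comapOIso (StMod.fibFst g η)) (hO η hη))
  haveI : IsAffine (StMod.sch 𝒴 ζ.left) := hζ
  obtain ⟨c⟩ := nonempty_pres h𝒳 hp hfqc hfqs ζ.left
  exact nonempty_pres_resF f ζ c

/-- The inverse images of relative generators of the second morphism, when the structure sheaf generates relative
to the first, generate relative to the composite. -/
theorem isRelGenFam_comp_comapQ (h𝒳 : FibCat.IsFibGrpd 𝒳.p) (h𝒴 : AlgSt.IsAlgStack Scheme.fppfPrecoverage 𝒴)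
    (h𝒵 : AlgSt.IsAlgStack Scheme.fppfPrecoverage 𝒵)
    (f : 𝒳 ⥤ᵇ 𝒴) (hfqc : AlgSt.IsQuasiCompactMor Scheme.fppfPrecoverage f) (hfqs : AlgSt.IsQuasiSeparatedMor f)
    (g : 𝒴 ⥤ᵇ 𝒵) {ι : Type v} (F : ι → StMod.QCoh 𝒴)
    (hO : StMod.IsRelGenFam f (fun _ : PUnit.{u + 1} => StMod.OQ 𝒳)) (hF : StMod.IsRelGenFam g F) :
    StMod.IsRelGenFam (BasedFunctor.comp f g) (fun j => (StMod.comapQ f).obj (F j)) := by
  intro η hη
  have hp := h𝒴.isStack.1
  obtain ⟨x₀, ⟨P⟩, hd⟩ := exists_atlas_fibCat g h𝒵 h𝒴 η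
  refine isGenFam_of_iso (fun j => ?_) (isGenFam_comap_of_structureSheaf_fib (isFibGrpd_fibCat _ η h𝒳)
    (isFibGrpd_fibCat g η hp) (resF f g η) P hd (fun ζ hζ => ?_) (fun j => (StMod.comapQ (StMod.fibFst g η)).obj (F j))
    (fun p => isGenFam_of_iso (fun _ => (StMod.comapFunctor (StMod.fibFst (resF f g η) p.1)).mapIso
      (StMod.comapOIso (StMod.fibFst (BasedFunctor.comp f g) η)))
      (isGenFam_resF_fib f p.1 h𝒳 (fun _ : PUnit.{u + 1} => StMod.OQ 𝒳) (hO _ p.2.1))) (hF η hη))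
  · exact (StMod.comapCompIso (StMod.fibFst g η) (resF f g η) (F j).obj).symm ≪≫
      StMod.comapCompIso f (StMod.fibFst (BasedFunctor.comp f g) η) (F j).obj
  haveI : IsAffine (StMod.sch 𝒴 ζ.left) := hζ
  obtain ⟨c⟩ := nonempty_pres h𝒳 hp hfqc hfqs ζ.left
  exact nonempty_pres_resF f ζ c

end Groth.Agent.H9Gen
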