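import Groth.Agent.H9Gen.GraphFun
import Groth.Agent.H9Gen.Main
import Groth.Agent.AlgStLib.QuasiCompact
import Groth.Agent.AlgStLib.SpaceCalc
import Groth.Agent.S12976
import Groth.Agent.S12980

/-!
# Relative generation and cancellation along the diagonal
-/

set_option autoImplicit false
set_option linter.style.haveILetI false
set_option linter.unusedSectionVars false
set_option backward.isDefEq.respectTransparency false
set_option backward.isDefEq.respectTransparency.types false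

universe v u

open CategoryTheory CategoryTheory.Limits AlgebraicGeometry AlgSp
open Groth.Agent.StModLib Groth.Agent.AlgStLib Groth.Agent.FibBase

noncomputable section

namespace Groth.Agent.H9Gen

variable {S : Scheme.{u}} {𝒳 𝒴 𝒵 𝒳' 𝒵' : AlgSt.Cat S}

/-- Presentations transport along functors between categories over objects which are full and essentially
surjective. -/
theorem nonempty_pres_transport {k : 𝒳 ⥤ᵇ 𝒴} {η : 𝒴.obj} {k' : 𝒳' ⥤ᵇ 𝒵'} {η' : 𝒵'.obj}
    (L : StMod.fibCat k η ⥤ᵇ StMod.fibCat k' η') [L.toFunctor.Full]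
    (hsurj : ∀ b : (StMod.fibCat k' η').obj, ∃ a, Nonempty (L.obj a ≅ b)) (c : Pres k η) :
    Nonempty (Pres k' η') := by
  let Z : (StMod.fibCat k η).obj := CostructuredArrow.mk c.α
  let W : Fin c.n → (StMod.fibCat k η).obj := fun j => CostructuredArrow.mk (k.map (c.a j) ≫ c.α)
  let A : ∀ j, W j ⟶ Z := fun j => CostructuredArrow.homMk (c.a j) rfl
  let B : ∀ j, W j ⟶ Z := fun j => CostructuredArrow.homMk (c.b j) (c.eq j).symm
  refine ⟨{ z := (L.obj Z).left, affz := isAffine_map L (x := Z) c.affz, α := (L.obj Z).hom, n := c.n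
            w := fun j => (L.obj (W j)).left, affw := fun j => isAffine_map L (x := W j) (c.affw j)
            a := fun j => (L.map (A j)).left, b := fun j => (L.map (B j)).left
            eq := fun j => (CostructuredArrow.w (L.map (A j))).trans (CostructuredArrow.w (L.map (B j))).symm
            cov := fun ξ β => ?_, rel := fun y p q h => ?_ }⟩
  · obtain ⟨a, ⟨θ⟩⟩ := hsurj (CostructuredArrow.mk β)
    obtain ⟨ι, y, φ, hc, hψ⟩ := c.cov a.left a.hom
    have hc' := (isCov_map L (isCov_fibCat hc)).comp_isIso θ.hom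
    refine ⟨ι, _, fun i => (L.map (CostructuredArrow.homMk (φ i) rfl :
      (CostructuredArrow.mk (k.map (φ i) ≫ a.hom) : (StMod.fibCat k η).obj) ⟶ a) ≫ θ.hom).left,
      ⟨fun i => hc'.flat i, fun i => hc'.lfp i, fun t => hc'.surj t⟩, fun i => ?_⟩
    obtain ⟨ψ, hψ⟩ := hψ i
    let Ψ : (CostructuredArrow.mk (k.map (φ i) ≫ a.hom) : (StMod.fibCat k η).obj) ⟶ Z :=
      CostructuredArrow.homMk ψ hψ
    exact ⟨(L.map Ψ).left, (CostructuredArrow.w (L.map Ψ)).trans
      (CostructuredArrow.w (L.map (CostructuredArrow.homMk (φ i) rfl :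
        (CostructuredArrow.mk (k.map (φ i) ≫ a.hom) : (StMod.fibCat k η).obj) ⟶ a) ≫ θ.hom)).symm⟩
  · let Y : (StMod.fibCat k' η').obj := CostructuredArrow.mk (k'.map p ≫ (L.obj Z).hom)
    obtain ⟨a, ⟨θ⟩⟩ := hsurj Y
    let p₁ : Y ⟶ L.obj Z := CostructuredArrow.homMk p rfl
    let q₁ : Y ⟶ L.obj Z := CostructuredArrow.homMk q h.symm
    obtain ⟨p₀, hp₀⟩ := L.toFunctor.map_surjective (θ.hom ≫ p₁)
    obtain ⟨q₀, hq₀⟩ := L.toFunctor.map_surjective (θ.hom ≫ q₁)
    obtain ⟨ι, y', φ, hc, hj⟩ := c.rel a.left p₀.left q₀.left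
      ((CostructuredArrow.w p₀).trans (CostructuredArrow.w q₀).symm)
    have hc' := (isCov_map L (isCov_fibCat hc)).comp_isIso θ.hom
    refine ⟨ι, _, fun i => (L.map (CostructuredArrow.homMk (φ i) rfl :
      (CostructuredArrow.mk (k.map (φ i) ≫ a.hom) : (StMod.fibCat k η).obj) ⟶ a) ≫ θ.hom).left,
      ⟨fun i => hc'.flat i, fun i => hc'.lfp i, fun t => hc'.surj t⟩, fun i => ?_⟩
    obtain ⟨j, d, ha, hb⟩ := hj i
    let Φ : (CostructuredArrow.mk (k.map (φ i) ≫ a.hom) : (StMod.fibCat k η).obj) ⟶ a :=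
      CostructuredArrow.homMk (φ i) rfl
    let D : (CostructuredArrow.mk (k.map (φ i) ≫ a.hom) : (StMod.fibCat k η).obj) ⟶ W j :=
      CostructuredArrow.homMk d (by
        show k.map d ≫ k.map (c.a j) ≫ c.α = k.map (φ i) ≫ a.hom
        rw [← Category.assoc, ← Functor.map_comp, ha, Functor.map_comp, Category.assoc]
        exact congrArg (k.map (φ i) ≫ ·) (CostructuredArrow.w p₀))
    have h1 : D ≫ A j = Φ ≫ p₀ := CostructuredArrow.hom_ext _ _ ha
    have h2 : D ≫ B j = Φ ≫ q₀ := CostructuredArrow.hom_ext _ _ hb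
    have e1 : L.map D ≫ L.map (A j) = (L.map Φ ≫ θ.hom) ≫ p₁ := by
      rw [← Functor.map_comp, h1, Functor.map_comp, hp₀, Category.assoc]
    have e2 : L.map D ≫ L.map (B j) = (L.map Φ ≫ θ.hom) ≫ q₁ := by
      rw [← Functor.map_comp, h2, Functor.map_comp, hq₀, Category.assoc]
    exact ⟨j, (L.map D).left, congrArg CommaMorphism.left e1, congrArg CommaMorphism.left e2⟩

/-- The functor of categories over an object induced by an isomorphism. -/
def fibIso {π π' : 𝒳 ⥤ᵇ 𝒵} (e : π ≅ π') (η : 𝒵.obj) : StMod.fibCat π' η ⥤ᵇ StMod.fibCat π η where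
  toFunctor :=
    { obj := fun x => CostructuredArrow.mk (Y := x.left) (e.hom.toNatTrans.app x.left ≫ x.hom)
      map := fun {x' x} φ => CostructuredArrow.homMk φ.left (by
        show π.map φ.left ≫ e.hom.toNatTrans.app x.left ≫ x.hom = e.hom.toNatTrans.app x'.left ≫ x'.hom
        rw [← Category.assoc, e.hom.toNatTrans.naturality, Category.assoc]
        exact congrArg (e.hom.toNatTrans.app x'.left ≫ ·) (CostructuredArrow.w φ)) }
  w := rfl

/-- Relative generation passes to isomorphic morphisms. -/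
theorem isRelGenFam_of_iso (h𝒳 : FibCat.IsFibGrpd 𝒳.p) {π π' : 𝒳 ⥤ᵇ 𝒵} (e : π ≅ π') {ι : Type v}
    {E : ι → StMod.QCoh 𝒳} (h : StMod.IsRelGenFam π' E) : StMod.IsRelGenFam π E := by
  intro η hη
  let L := fibIso e η
  haveI : L.toFunctor.Full := ⟨fun {x' x} m => ⟨CostructuredArrow.homMk m.left (by
    have hw : π.map m.left ≫ e.hom.toNatTrans.app x.left ≫ x.hom = e.hom.toNatTrans.app x'.left ≫ x'.hom :=
      CostructuredArrow.w m
    have hw' : e.hom.toNatTrans.app x'.left ≫ π'.map m.left ≫ x.hom = e.hom.toNatTrans.app x'.left ≫ x'.hom :=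
      ((Category.assoc _ _ _).symm.trans
        (congrArg (fun t => t ≫ x.hom) (e.hom.toNatTrans.naturality m.left).symm)).trans
        ((Category.assoc _ _ _).trans hw)
    haveI : IsIso (e.hom.toNatTrans.app x'.left) :=
      (((BasedNatTrans.forgetful 𝒳 𝒵).mapIso e).app x'.left).isIso_hom
    exact (cancel_epi (e.hom.toNatTrans.app x'.left)).1 hw'), CostructuredArrow.hom_ext _ _ rfl⟩⟩
  refine isGenFam_of_comap L (isFibGrpd_fibCat π' η h𝒳) (isFibGrpd_fibCat π η h𝒳) (fun b => ?_) _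
    (isGenFam_of_iso (fun i => ?_) (h η hη))
  · refine ⟨CostructuredArrow.mk (e.inv.toNatTrans.app b.1.left ≫ b.1.hom), ⟨CostructuredArrow.isoMk (Iso.refl _) ?_⟩⟩
    show π.map (𝟙 b.1.left) ≫ b.1.hom =
      e.hom.toNatTrans.app b.1.left ≫ e.inv.toNatTrans.app b.1.left ≫ b.1.hom
    rw [π.map_id, Category.id_comp]
    exact ((((BasedNatTrans.forgetful 𝒳 𝒵).mapIso e).app b.1.left).hom_inv_id_assoc b.1.hom).symm
  · exact StMod.comapCompIso (StMod.fibFst π η) L (E i).obj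

theorem isQuasiCompactMor_diag (h𝒴 : AlgSt.IsAlgStack Scheme.fppfPrecoverage 𝒴)
    (h𝒵 : AlgSt.IsAlgStack Scheme.fppfPrecoverage 𝒵) (g : 𝒴 ⥤ᵇ 𝒵) (hgqs : AlgSt.IsQuasiSeparatedMor g) :
    AlgSt.IsQuasiCompactMor Scheme.fppfPrecoverage (FibCat.diag g) :=
  have hfp := isAlgStack_fp h𝒴 h𝒴 h𝒵.isStack h𝒵.diag g g
  (repByAlgSpWith_isQuasiCompactMor_iff h𝒴 hfp.isStack hfp.diag (repByAlgSp1_diag h𝒴.diag h𝒵.diag g)).1
    (repByAlgSpWith_mono (fun _ _ _ h => h.1) hgqs)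

theorem isQuasiSeparatedMor_diag (h𝒴 : AlgSt.IsAlgStack Scheme.fppfPrecoverage 𝒴)
    (h𝒵 : AlgSt.IsAlgStack Scheme.fppfPrecoverage 𝒵) (g : 𝒴 ⥤ᵇ 𝒵) (hgqs : AlgSt.IsQuasiSeparatedMor g) :
    AlgSt.IsQuasiSeparatedMor (FibCat.diag g) := by
  have hfp := isAlgStack_fp h𝒴 h𝒴 h𝒵.isStack h𝒵.diag g g
  refine (Groth.Agent.S12980.result S 𝒴 _ h𝒴 hfp (FibCat.diag g)).2
    ⟨((Groth.Agent.S12980.result S 𝒴 𝒵 h𝒴 h𝒵 g).1 hgqs).2, ?_⟩
  refine repByAlgSpWith_of_isEquivOver (fun φ _ => ?_)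
    ((Groth.Agent.S12976.result S 𝒴 _ h𝒴 hfp (FibCat.diag g)).1 (repByAlgSp1_diag h𝒴.diag h𝒵.diag g))
  exact Groth.Agent.AlgSpPts.isQuasiCompactMor_of_repWith (Groth.Agent.AlgSpLib.repWith_of_isIso @QuasiCompact φ)

/-- Generators relative to a composite generate relative to the first morphism, when the structure sheaf generates
relative to the diagonal of the second. -/
theorem isRelGenFam_of_comp (h𝒳 : AlgSt.IsAlgStack Scheme.fppfPrecoverage 𝒳)
    (h𝒴 : AlgSt.IsAlgStack Scheme.fppfPrecoverage 𝒴) (h𝒵 : AlgSt.IsAlgStack Scheme.fppfPrecoverage 𝒵)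
    (f : 𝒳 ⥤ᵇ 𝒴) (g : 𝒴 ⥤ᵇ 𝒵) (hgqs : AlgSt.IsQuasiSeparatedMor g)
    {ι : Type u} (E : ι → StMod.QCoh 𝒳) (hh : StMod.IsRelGenFam (BasedFunctor.comp f g) E)
    (hO : StMod.IsRelGenFam (FibCat.diag g) (fun _ : PUnit.{u + 1} => StMod.OQ 𝒴)) :
    StMod.IsRelGenFam f E := by
  intro y hy
  have hx := h𝒳.isStack.1
  have hp := h𝒴.isStack.1
  have hz := h𝒵.isStack.1
  haveI : IsAffine (StMod.sch 𝒴 y) := hy
  obtain ⟨x₀, ⟨P⟩, hd⟩ := exists_atlas_fibCat (BasedFunctor.comp f g) h𝒵 h𝒳 (g.obj y)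
  have hq := isFibGrpd_fibCat f y hx
  have hη : IsAffine (StMod.sch 𝒵 (g.obj y)) := isAffine_map g hy
  have hpair : ∀ w : Aff (StMod.fibCat (BasedFunctor.comp f g) (g.obj y)),
      ∃ p : PairObj w.1, IsAffine (StMod.sch (FibCat.fp g g) p.obj) := fun w => by
    obtain ⟨p⟩ := nonempty_pairObj hp hz w.1
    refine ⟨p, ?_⟩
    haveI : IsAffine (StMod.sch 𝒳 w.1.left) := w.2
    exact IsAffine.of_isIso (eqToHom (show StMod.sch (FibCat.fp g g) p.obj = StMod.sch 𝒳 w.1.left from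
      StMod.sch_obj_eq f w.1.left))
  refine isGenFam_of_iso (fun i => ?_) (isGenFam_comap_of_structureSheaf_fib hq
    (isFibGrpd_fibCat _ _ hx) (graphFun f g y) P hd (fun w hw => ?_)
    (fun i => (StMod.comapQ (StMod.fibFst (BasedFunctor.comp f g) (g.obj y))).obj (E i))
    (fun t => ?_) (hh _ hη))
  · exact (StMod.comapCompIso (StMod.fibFst (BasedFunctor.comp f g) (g.obj y)) (graphFun f g y) (E i).obj).symm
  · obtain ⟨p, hpa⟩ := hpair ⟨w, hw⟩
    haveI := hpa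
    obtain ⟨c⟩ := nonempty_pres hp (fp_isFibGrpd hp hp hz) (isQuasiCompactMor_diag h𝒴 h𝒵 g hgqs)
      (isQuasiSeparatedMor_diag h𝒴 h𝒵 g hgqs) p.obj
    exact nonempty_pres_transport (graphFib p hx hp) (graphFib_surj p hx hp hz) c
  · obtain ⟨p, hpa⟩ := hpair ⟨t.1, t.2.1⟩
    refine isGenFam_of_comap (graphFib p hx hp) (isFibGrpd_fibCat _ _ hp) (isFibGrpd_fibCat _ _ hq)
      (fun b => graphFib_surj p hx hp hz b.1) _ (isGenFam_of_iso (fun _ => ?_) (hO p.obj hpa))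
    refine StMod.comapOIso (StMod.fibFst (FibCat.diag g) p.obj) ≪≫
      (StMod.comapOIso (BasedFunctor.comp (graphFib p hx hp) (StMod.fibFst (graphFun f g y) t.1))).symm ≪≫
      StMod.comapCompIso (StMod.fibFst (graphFun f g y) t.1) (graphFib p hx hp) _

end Groth.Agent.H9Gen
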