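import Groth.Agent.H9Gen.Geometry

/-!
# The fibres of the graph functor are fibres of the diagonal
-/

set_option autoImplicit false
set_option linter.style.haveILetI false
set_option linter.unusedSectionVars false
set_option backward.isDefEq.respectTransparency false
set_option backward.isDefEq.respectTransparency.types false

universe v u

open CategoryTheory CategoryTheory.Limits AlgebraicGeometry
open Groth.Agent.StModLib Groth.Agent.FibBase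

noncomputable section

namespace Groth.Agent.H9Gen

variable {S : Scheme.{u}} {𝒳 𝒴 𝒵 : AlgSt.Cat S} (f : 𝒳 ⥤ᵇ 𝒴) (g : 𝒴 ⥤ᵇ 𝒵) (y : 𝒴.obj)

/-- The functor from the category over `y` to the category over its image. -/
def graphFun : StMod.fibCat f y ⥤ᵇ StMod.fibCat (BasedFunctor.comp f g) (g.obj y) where
  toFunctor :=
    { obj := fun x => CostructuredArrow.mk (Y := x.left) (g.map x.hom)
      map := fun {x' x} φ => CostructuredArrow.homMk φ.left (by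
        show g.map (f.map φ.left) ≫ g.map x.hom = g.map x'.hom
        rw [← Functor.map_comp, CostructuredArrow.w φ]) }
  w := rfl

variable {f g y} {w : (StMod.fibCat (BasedFunctor.comp f g) (g.obj y)).obj}

/-- The pair of objects attached to an object over the image. -/
structure PairObj (w : (StMod.fibCat (BasedFunctor.comp f g) (g.obj y)).obj) where
  /-- the second object -/
  y' : 𝒴.obj
  /-- its morphism to `y` -/
  ρ : y' ⟶ y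
  /-- the comparison -/
  χ : g.obj (f.obj w.left) ≅ g.obj y'
  lift : 𝒵.p.IsHomLift (𝟙 (𝒴.p.obj (f.obj w.left))) χ.hom
  comm : χ.hom ≫ g.map ρ = w.hom

theorem nonempty_pairObj (h𝒴 : FibCat.IsFibGrpd 𝒴.p) (h𝒵 : FibCat.IsFibGrpd 𝒵.p)
    (w : (StMod.fibCat (BasedFunctor.comp f g) (g.obj y)).obj) : Nonempty (PairObj w) := by
  let δ : g.obj (f.obj w.left) ⟶ g.obj y := w.hom
  let s : 𝒴.p.obj (f.obj w.left) ⟶ 𝒴.p.obj y :=
    eqToHom (g.w_obj (f.obj w.left)).symm ≫ 𝒵.p.map δ ≫ eqToHom (g.w_obj y)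
  obtain ⟨y', ρ, hρ⟩ := h𝒴.exists_lift s
  have hd : 𝒴.p.obj y' = 𝒴.p.obj (f.obj w.left) := IsHomLift.domain_eq 𝒴.p s ρ
  have hm : 𝒴.p.map ρ = eqToHom hd ≫ s := by
    rw [IsHomLift.fac' 𝒴.p s ρ]
    simp
  have hb : eqToHom ((g.w_obj (f.obj w.left)).trans (hd.symm.trans (g.w_obj y').symm)) ≫
      𝒵.p.map (g.map ρ) = 𝒵.p.map δ := by
    rw [map_w g ρ, hm]
    simp [s]
  obtain ⟨χ, ⟨hχ, hχρ⟩, -⟩ := existsUnique_lift h𝒵 (g.map ρ) δ _ hb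
  haveI : IsIso (StMod.bmap 𝒵 χ) := by
    show IsIso (𝒵.p.map χ).left
    rw [hχ]
    infer_instance
  haveI := isIso_of_isIso_bmap h𝒵 χ
  exact ⟨⟨y', ρ, asIso χ, IsHomLift.of_fac' 𝒵.p _ _ (g.w_obj _) ((g.w_obj y').trans hd)
    (by rw [show (asIso χ).hom = χ from rfl, hχ]; simp), hχρ⟩⟩

/-- The pair as an object of the fibre product. -/
def PairObj.obj (p : PairObj w) : (FibCat.fp g g).obj :=
  ⟨{ fst := f.obj w.left, snd := p.y', iso := p.χ }, p.lift⟩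

variable (p : PairObj w)

/-- The first component of an object over the pair. -/
def fstMor (b : (StMod.fibCat (FibCat.diag g) p.obj).obj) : b.left ⟶ f.obj w.left := b.hom.hom.fst

/-- The second component of an object over the pair. -/
def sndMor (b : (StMod.fibCat (FibCat.diag g) p.obj).obj) : b.left ⟶ p.y' := b.hom.hom.snd

theorem pair_comm (b : (StMod.fibCat (FibCat.diag g) p.obj).obj) :
    g.map (fstMor p b) ≫ p.χ.hom = g.map (sndMor p b) :=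
  b.hom.hom.w.trans (Category.id_comp _)

theorem pair_map_comp {b' b : (StMod.fibCat (FibCat.diag g) p.obj).obj} (m : b' ⟶ b) :
    m.left ≫ fstMor p b = fstMor p b' ∧ m.left ≫ sndMor p b = sndMor p b' :=
  ⟨congrArg (fun k => k.hom.fst) (CostructuredArrow.w m), congrArg (fun k => k.hom.snd) (CostructuredArrow.w m)⟩

theorem exists_fib_lift (h𝒳 : FibCat.IsFibGrpd 𝒳.p) (h𝒴 : FibCat.IsFibGrpd 𝒴.p)
    (b : (StMod.fibCat (FibCat.diag g) p.obj).obj) :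
    ∃ (ξ : 𝒳.obj) (_ : 𝒳.p.obj ξ = 𝒴.p.obj b.left) (φ : ξ ⟶ w.left) (e : f.obj ξ ≅ b.left),
      e.hom ≫ fstMor p b = f.map φ ∧ ∃ h : 𝒴.p.obj (f.obj ξ) = 𝒴.p.obj b.left, 𝒴.p.map e.hom = eqToHom h := by
  let s : 𝒴.p.obj b.left ⟶ 𝒳.p.obj w.left := 𝒴.p.map (fstMor p b) ≫ eqToHom (f.w_obj w.left)
  obtain ⟨ξ, φ, hφ⟩ := h𝒳.exists_lift s
  have hd : 𝒳.p.obj ξ = 𝒴.p.obj b.left := IsHomLift.domain_eq 𝒳.p s φ
  have hm : 𝒳.p.map φ = eqToHom hd ≫ s := by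
    rw [IsHomLift.fac' 𝒳.p s φ]
    simp
  have hb : eqToHom ((f.w_obj ξ).trans hd) ≫ 𝒴.p.map (fstMor p b) = 𝒴.p.map (f.map φ) := by
    rw [map_w f φ, hm]
    simp [s]
  obtain ⟨e, ⟨he, hep⟩, -⟩ := existsUnique_lift h𝒴 (fstMor p b) (f.map φ) _ hb
  haveI : IsIso (StMod.bmap 𝒴 e) := by
    show IsIso (𝒴.p.map e).left
    rw [he]
    infer_instance
  haveI := isIso_of_isIso_bmap h𝒴 e
  exact ⟨ξ, hd, φ, asIso e, hep, (f.w_obj ξ).trans hd, he⟩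

theorem exists_fib_map (h𝒳 : FibCat.IsFibGrpd 𝒳.p) (h𝒴 : FibCat.IsFibGrpd 𝒴.p) {ξ' ξ : 𝒳.obj}
    {b' b : 𝒴.obj} (hd' : 𝒳.p.obj ξ' = 𝒴.p.obj b') (hd : 𝒳.p.obj ξ = 𝒴.p.obj b)
    {e' : f.obj ξ' ⟶ b'} {e : f.obj ξ ⟶ b} (he' : 𝒴.p.map e' = eqToHom ((f.w_obj ξ').trans hd'))
    (he : 𝒴.p.map e = eqToHom ((f.w_obj ξ).trans hd)) {ξ₀ : 𝒳.obj} {φ' : ξ' ⟶ ξ₀} {φ : ξ ⟶ ξ₀}
    {q' : b' ⟶ f.obj ξ₀} {q : b ⟶ f.obj ξ₀} (h' : e' ≫ q' = f.map φ') (h : e ≫ q = f.map φ) (ω : b' ⟶ b)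
    (hω : ω ≫ q = q') :
    ∃ χ : ξ' ⟶ ξ, χ ≫ φ = φ' ∧ f.map χ ≫ e = e' ≫ ω ∧
      𝒳.p.map χ = eqToHom hd' ≫ 𝒴.p.map ω ≫ eqToHom hd.symm := by
  have hq : ∀ {x : 𝒳.obj} {c : 𝒴.obj} (hc : 𝒳.p.obj x = 𝒴.p.obj c) {ε : f.obj x ⟶ c} {r : c ⟶ f.obj ξ₀}
      {ψ : x ⟶ ξ₀}, 𝒴.p.map ε = eqToHom ((f.w_obj x).trans hc) → ε ≫ r = f.map ψ →
      eqToHom hc ≫ 𝒴.p.map r ≫ eqToHom (f.w_obj ξ₀) = 𝒳.p.map ψ := by
    intro x c hc ε r ψ hε hr
    have h1 : eqToHom ((f.w_obj x).trans hc) ≫ 𝒴.p.map r =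
        eqToHom (f.w_obj x) ≫ 𝒳.p.map ψ ≫ eqToHom (f.w_obj ξ₀).symm := by
      rw [← hε, ← Functor.map_comp, hr, map_w f ψ]
    have h2 := congrArg (fun t => eqToHom (f.w_obj x).symm ≫ t ≫ eqToHom (f.w_obj ξ₀)) h1
    simpa using h2
  have hg : (eqToHom hd' ≫ 𝒴.p.map ω ≫ eqToHom hd.symm) ≫ 𝒳.p.map φ = 𝒳.p.map φ' := by
    rw [← hq hd he h, ← hq hd' he' h', ← hω, Functor.map_comp]
    simp
  obtain ⟨χ, ⟨hχ, hχφ⟩, -⟩ := existsUnique_lift h𝒳 φ φ' _ hg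
  refine ⟨χ, hχφ, hom_ext_of_map h𝒴 q ?_ ?_, hχ⟩
  · rw [Functor.map_comp, Functor.map_comp, map_w f χ, hχ, he, he']
    simp
  · rw [Category.assoc, Category.assoc, h, hω, h', ← Functor.map_comp, hχφ]

variable (h𝒳 : FibCat.IsFibGrpd 𝒳.p) (h𝒴 : FibCat.IsFibGrpd 𝒴.p)

/-- The object of the source. -/
def liftX (b : (StMod.fibCat (FibCat.diag g) p.obj).obj) : 𝒳.obj := (exists_fib_lift p h𝒳 h𝒴 b).choose

theorem liftX_p (b : (StMod.fibCat (FibCat.diag g) p.obj).obj) :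
    𝒳.p.obj (liftX p h𝒳 h𝒴 b) = 𝒴.p.obj b.left :=
  (exists_fib_lift p h𝒳 h𝒴 b).choose_spec.choose

/-- Its morphism. -/
def liftφ (b : (StMod.fibCat (FibCat.diag g) p.obj).obj) : liftX p h𝒳 h𝒴 b ⟶ w.left :=
  (exists_fib_lift p h𝒳 h𝒴 b).choose_spec.choose_spec.choose

/-- Its identification. -/
def liftE (b : (StMod.fibCat (FibCat.diag g) p.obj).obj) : f.obj (liftX p h𝒳 h𝒴 b) ≅ b.left :=
  (exists_fib_lift p h𝒳 h𝒴 b).choose_spec.choose_spec.choose_spec.choose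

theorem liftE_fst (b : (StMod.fibCat (FibCat.diag g) p.obj).obj) :
    (liftE p h𝒳 h𝒴 b).hom ≫ fstMor p b = f.map (liftφ p h𝒳 h𝒴 b) :=
  (exists_fib_lift p h𝒳 h𝒴 b).choose_spec.choose_spec.choose_spec.choose_spec.1

theorem map_liftE (b : (StMod.fibCat (FibCat.diag g) p.obj).obj) :
    𝒴.p.map (liftE p h𝒳 h𝒴 b).hom = eqToHom ((f.w_obj _).trans (liftX_p p h𝒳 h𝒴 b)) :=
  (exists_fib_lift p h𝒳 h𝒴 b).choose_spec.choose_spec.choose_spec.choose_spec.2.choose_spec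

theorem exists_liftMap {b' b : (StMod.fibCat (FibCat.diag g) p.obj).obj} (m : b' ⟶ b) :
    ∃ χ : liftX p h𝒳 h𝒴 b' ⟶ liftX p h𝒳 h𝒴 b, χ ≫ liftφ p h𝒳 h𝒴 b = liftφ p h𝒳 h𝒴 b' ∧
      f.map χ ≫ (liftE p h𝒳 h𝒴 b).hom = (liftE p h𝒳 h𝒴 b').hom ≫ m.left ∧
      𝒳.p.map χ = eqToHom (liftX_p p h𝒳 h𝒴 b') ≫ 𝒴.p.map m.left ≫ eqToHom (liftX_p p h𝒳 h𝒴 b).symm :=
  exists_fib_map h𝒳 h𝒴 (liftX_p p h𝒳 h𝒴 b') (liftX_p p h𝒳 h𝒴 b) (map_liftE p h𝒳 h𝒴 b') (map_liftE p h𝒳 h𝒴 b) (liftE_fst p h𝒳 h𝒴 b')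
    (liftE_fst p h𝒳 h𝒴 b) m.left (pair_map_comp p m).1

/-- The lift of a morphism. -/
def liftMap {b' b : (StMod.fibCat (FibCat.diag g) p.obj).obj} (m : b' ⟶ b) :
    liftX p h𝒳 h𝒴 b' ⟶ liftX p h𝒳 h𝒴 b := (exists_liftMap p h𝒳 h𝒴 m).choose

theorem liftMap_φ {b' b : (StMod.fibCat (FibCat.diag g) p.obj).obj} (m : b' ⟶ b) :
    liftMap p h𝒳 h𝒴 m ≫ liftφ p h𝒳 h𝒴 b = liftφ p h𝒳 h𝒴 b' := (exists_liftMap p h𝒳 h𝒴 m).choose_spec.1

theorem liftMap_E {b' b : (StMod.fibCat (FibCat.diag g) p.obj).obj} (m : b' ⟶ b) :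
    f.map (liftMap p h𝒳 h𝒴 m) ≫ (liftE p h𝒳 h𝒴 b).hom = (liftE p h𝒳 h𝒴 b').hom ≫ m.left :=
  (exists_liftMap p h𝒳 h𝒴 m).choose_spec.2.1

theorem liftMap_p {b' b : (StMod.fibCat (FibCat.diag g) p.obj).obj} (m : b' ⟶ b) :
    𝒳.p.map (liftMap p h𝒳 h𝒴 m) =
      eqToHom (liftX_p p h𝒳 h𝒴 b') ≫ 𝒴.p.map m.left ≫ eqToHom (liftX_p p h𝒳 h𝒴 b).symm :=
  (exists_liftMap p h𝒳 h𝒴 m).choose_spec.2.2

/-- The morphism to `y`. -/
def liftγ (b : (StMod.fibCat (FibCat.diag g) p.obj).obj) : f.obj (liftX p h𝒳 h𝒴 b) ⟶ y :=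
  (liftE p h𝒳 h𝒴 b).hom ≫ sndMor p b ≫ p.ρ

theorem liftγ_comm (b : (StMod.fibCat (FibCat.diag g) p.obj).obj) :
    g.map (f.map (liftφ p h𝒳 h𝒴 b)) ≫ w.hom = g.map (liftγ p h𝒳 h𝒴 b) := by
  rw [← liftE_fst, ← p.comm, liftγ, Functor.map_comp, Functor.map_comp, Functor.map_comp, Category.assoc,
    ← Category.assoc (g.map (fstMor p b)), pair_comm]

/-- The object of the fibre. -/
def liftObj (b : (StMod.fibCat (FibCat.diag g) p.obj).obj) : (StMod.fibCat (graphFun f g y) w).obj :=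
  CostructuredArrow.mk (Y := (CostructuredArrow.mk (liftγ p h𝒳 h𝒴 b) : (StMod.fibCat f y).obj))
    (CostructuredArrow.homMk (liftφ p h𝒳 h𝒴 b) (liftγ_comm p h𝒳 h𝒴 b))

/-- The fibre of the diagonal as the fibre of the graph functor. -/
def graphFib : StMod.fibCat (FibCat.diag g) p.obj ⥤ᵇ StMod.fibCat (graphFun f g y) w where
  toFunctor :=
    { obj := liftObj p h𝒳 h𝒴
      map := fun {b' b} m =>
        let χ : (liftObj p h𝒳 h𝒴 b').left ⟶ (liftObj p h𝒳 h𝒴 b).left :=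
          CostructuredArrow.homMk (liftMap p h𝒳 h𝒴 m) (by
            show f.map (liftMap p h𝒳 h𝒴 m) ≫ liftγ p h𝒳 h𝒴 b = liftγ p h𝒳 h𝒴 b'
            rw [liftγ, liftγ, ← Category.assoc, liftMap_E, Category.assoc, ← Category.assoc m.left,
              (pair_map_comp p m).2])
        CostructuredArrow.homMk χ (CostructuredArrow.hom_ext _ _ (liftMap_φ p h𝒳 h𝒴 m))
      map_id := fun b => CostructuredArrow.hom_ext _ _ (CostructuredArrow.hom_ext _ _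
        (hom_ext_of_map h𝒳 (liftφ p h𝒳 h𝒴 b) (by
          show 𝒳.p.map (liftMap p h𝒳 h𝒴 (𝟙 b)) = 𝒳.p.map (𝟙 _)
          rw [liftMap_p, show (𝟙 b : b ⟶ b).left = 𝟙 b.left from rfl, CategoryTheory.Functor.map_id,
            CategoryTheory.Functor.map_id]
          simp) (by
          show liftMap p h𝒳 h𝒴 (𝟙 b) ≫ _ = 𝟙 _ ≫ _
          rw [liftMap_φ, Category.id_comp])))
      map_comp := fun {b'' b' b} m' m => CostructuredArrow.hom_ext _ _ (CostructuredArrow.hom_ext _ _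
        (hom_ext_of_map h𝒳 (liftφ p h𝒳 h𝒴 b) (by
          show 𝒳.p.map (liftMap p h𝒳 h𝒴 (m' ≫ m)) = 𝒳.p.map (liftMap p h𝒳 h𝒴 m' ≫ liftMap p h𝒳 h𝒴 m)
          rw [liftMap_p, Functor.map_comp, liftMap_p, liftMap_p,
            show (m' ≫ m).left = m'.left ≫ m.left from rfl, Functor.map_comp]
          simp) (by
          show liftMap p h𝒳 h𝒴 (m' ≫ m) ≫ _ = (liftMap p h𝒳 h𝒴 m' ≫ liftMap p h𝒳 h𝒴 m) ≫ _
          rw [liftMap_φ, Category.assoc, liftMap_φ, liftMap_φ]))) }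
  w := CategoryTheory.Functor.ext (fun b => liftX_p p h𝒳 h𝒴 b) (fun b' b m => liftMap_p p h𝒳 h𝒴 m)

instance graphFib_full : (graphFib p h𝒳 h𝒴).toFunctor.Full where
  map_surjective {b' b} m := by
    let χ : liftX p h𝒳 h𝒴 b' ⟶ liftX p h𝒳 h𝒴 b := m.left.left
    let ω : b'.left ⟶ b.left := (liftE p h𝒳 h𝒴 b').inv ≫ f.map χ ≫ (liftE p h𝒳 h𝒴 b).hom
    have hφ : χ ≫ liftφ p h𝒳 h𝒴 b = liftφ p h𝒳 h𝒴 b' :=
      congrArg CommaMorphism.left (CostructuredArrow.w m)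
    have hγ : f.map χ ≫ liftγ p h𝒳 h𝒴 b = liftγ p h𝒳 h𝒴 b' := CostructuredArrow.w m.left
    have h1 : ω ≫ fstMor p b = fstMor p b' := by
      simp only [ω, Category.assoc, liftE_fst, ← Functor.map_comp, hφ]
      rw [← liftE_fst, Iso.inv_hom_id_assoc]
    have h2 : (ω ≫ sndMor p b) ≫ p.ρ = sndMor p b' ≫ p.ρ := by
      have := congrArg ((liftE p h𝒳 h𝒴 b').inv ≫ ·) hγ
      simpa [liftγ, ω] using this
    have hbase : ∀ c : (StMod.fibCat (FibCat.diag g) p.obj).obj,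
        𝒵.p.map (g.map (sndMor p c)) = 𝒵.p.map (g.map (fstMor p c)) ≫ 𝒵.p.map p.χ.hom := fun c => by
      rw [← Functor.map_comp, pair_comm]
    have h3 : ω ≫ sndMor p b = sndMor p b' := by
      refine hom_ext_of_map h𝒴 p.ρ ?_ h2
      have hg : 𝒵.p.map (g.map (ω ≫ sndMor p b)) = 𝒵.p.map (g.map (sndMor p b')) := by
        rw [Functor.map_comp, Functor.map_comp, hbase, hbase, ← Category.assoc, ← Functor.map_comp]
        exact congrArg (fun t => t ≫ 𝒵.p.map p.χ.hom) (congrArg 𝒵.p.map ((g.toFunctor.map_comp _ _).symm.trans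
          (congrArg g.map h1)))
      rw [map_w g, map_w g] at hg
      exact (cancel_mono (eqToHom (g.w_obj p.y').symm)).1 ((cancel_epi (eqToHom (g.w_obj b'.left))).1 hg)
    let M : b' ⟶ b := CostructuredArrow.homMk ω
      (ObjectProperty.hom_ext _ (CategoricalPullback.hom_ext h1 h3))
    refine ⟨M, CostructuredArrow.hom_ext _ _ (CostructuredArrow.hom_ext _ _ ?_)⟩
    show liftMap p h𝒳 h𝒴 M = χ
    refine hom_ext_of_map h𝒳 (liftφ p h𝒳 h𝒴 b) ?_ ((liftMap_φ p h𝒳 h𝒴 M).trans hφ.symm)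
    rw [liftMap_p, show M.left = ω from rfl]
    simp only [ω, Functor.map_comp, map_w f χ, map_liftE]
    have : 𝒴.p.map (liftE p h𝒳 h𝒴 b').inv = eqToHom ((f.w_obj _).trans (liftX_p p h𝒳 h𝒴 b')).symm := by
      refine (cancel_epi (𝒴.p.map (liftE p h𝒳 h𝒴 b').hom)).1 ?_
      rw [← Functor.map_comp, Iso.hom_inv_id, CategoryTheory.Functor.map_id, map_liftE, eqToHom_trans,
        eqToHom_refl]
    rw [this]
    simp

theorem graphFib_surj (h𝒵 : FibCat.IsFibGrpd 𝒵.p) (a : (StMod.fibCat (graphFun f g y) w).obj) :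
    ∃ b, Nonempty ((graphFib p h𝒳 h𝒴).obj b ≅ a) := by
  let ξ : 𝒳.obj := a.left.left
  let γ : f.obj ξ ⟶ y := a.left.hom
  let φ : ξ ⟶ w.left := a.hom.left
  have hδ : g.map (f.map φ) ≫ w.hom = g.map γ := CostructuredArrow.w a.hom
  let s : 𝒴.p.obj (f.obj ξ) ⟶ 𝒴.p.obj p.y' :=
    eqToHom (g.w_obj _).symm ≫ 𝒵.p.map (g.map (f.map φ) ≫ p.χ.hom) ≫ eqToHom (g.w_obj _)
  have hs : s ≫ 𝒴.p.map p.ρ = 𝒴.p.map γ := by
    have e1 : 𝒵.p.map ((g.map (f.map φ) ≫ p.χ.hom) ≫ g.map p.ρ) = 𝒵.p.map (g.map γ) := by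
      rw [Category.assoc, p.comm, hδ]
    rw [Functor.map_comp, map_w g p.ρ, map_w g γ] at e1
    have e2 := congrArg (fun t => eqToHom (g.w_obj (f.obj ξ)).symm ≫ t ≫ eqToHom (g.w_obj y)) e1
    simpa [s] using e2
  obtain ⟨q, ⟨hq, hqρ⟩, -⟩ := existsUnique_lift h𝒴 p.ρ γ s hs
  have hw : g.map (f.map φ) ≫ p.χ.hom = g.map q := by
    refine hom_ext_of_map h𝒵 (g.map p.ρ) ?_ (by rw [Category.assoc, p.comm, hδ, ← Functor.map_comp, hqρ])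
    rw [map_w g q, hq]
    simp [s]
  let b : (StMod.fibCat (FibCat.diag g) p.obj).obj := CostructuredArrow.mk (Y := f.obj ξ)
    (ObjectProperty.homMk { fst := f.map φ, snd := q, w := hw.trans (Category.id_comp _).symm })
  obtain ⟨χ, hχφ, hχe, hχp⟩ := exists_fib_map h𝒳 h𝒴 (liftX_p p h𝒳 h𝒴 b) (f.w_obj ξ).symm
    (map_liftE p h𝒳 h𝒴 b) (e := 𝟙 (f.obj ξ)) (by rw [CategoryTheory.Functor.map_id]; simp)
    (liftE_fst p h𝒳 h𝒴 b) (φ := φ) (Category.id_comp _) (𝟙 (f.obj ξ)) (Category.id_comp _)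
  haveI : IsIso (StMod.bmap 𝒳 χ) := by
    show IsIso (𝒳.p.map χ).left
    rw [hχp]
    have : 𝒴.p.map (𝟙 (f.obj ξ)) = 𝟙 _ := CategoryTheory.Functor.map_id _ _
    haveI : IsIso (𝒴.p.map (𝟙 (f.obj ξ))).left := by rw [this]; infer_instance
    haveI : ∀ {A B : Over S} (e : A = B), IsIso (eqToHom e).left := fun e =>
      inferInstanceAs (IsIso ((Over.forget S).map (eqToHom e)))
    simp only [Over.comp_left]
    exact IsIso.comp_isIso' inferInstance (IsIso.comp_isIso' inferInstance inferInstance)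
  haveI := isIso_of_isIso_bmap h𝒳 χ
  have hγ : f.map χ ≫ γ = liftγ p h𝒳 h𝒴 b := by
    have hχe' : f.map χ = (liftE p h𝒳 h𝒴 b).hom := ((Category.comp_id _).symm.trans hχe).trans (Category.comp_id _)
    rw [hχe', liftγ, ← hqρ]
    rfl
  let i : (liftObj p h𝒳 h𝒴 b).left ≅ a.left := CostructuredArrow.isoMk (asIso χ) hγ
  exact ⟨b, ⟨CostructuredArrow.isoMk i (CostructuredArrow.hom_ext _ _ hχφ)⟩⟩

end Groth.Agent.H9Gen
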