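import Groth.Agent.StModLib.SectBC
import Groth.Agent.StModLib.SemiPull
import Mathlib.Algebra.Module.FinitePresentation
import Mathlib.LinearAlgebra.TensorProduct.Pi

/-!
# Flat base change of linear maps out of a module of finite presentation
-/

set_option autoImplicit false

universe u

open TensorProduct
open Groth.Agent.StModLib

namespace Groth.Agent.H9Gen

variable {A B : Type u} [CommRing A] [CommRing B] {M N : Type u} [AddCommGroup M] [Module A M]
  [AddCommGroup N] [Module B N]

/-- Base change of finite powers. -/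
theorem isSemiBC_compLeft {σ : A →+* B} {l : M →+ N} (h : IsSemiBC σ l) (ι : Type) [Fintype ι] [DecidableEq ι] :
    IsSemiBC σ (l.compLeft ι) := by
  obtain ⟨L, hL⟩ := exists_tensor_map l h.choose
  have hb := bijective_of_isSemiBC h L hL
  letI := σ.toAlgebra
  have hl : ∀ (r : A) (x : ι → M), l.compLeft ι (r • x) = σ r • l.compLeft ι x := fun r x =>
    funext fun i => h.choose r (x i)
  refine isSemiBC_of_bijective' hl ((L.compLeft ι).comp
    (TensorProduct.piRight A A B (fun _ : ι => M)).toLinearMap.toAddMonoidHom) (fun s x => funext fun i => ?_)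
    ((hb.comp_left).comp (TensorProduct.piRight A A B (fun _ : ι => M)).bijective)
  show L (TensorProduct.piRight A A B (fun _ : ι => M) (s ⊗ₜ x) i) = s • l (x i)
  simp [hL]

/-- Linear maps out of a base change are determined by their values on the original module. -/
theorem linearMap_ext_semiBC {σ : A →+* B} {l : M →+ N} (h : IsSemiBC σ l) {O : Type u} [AddCommGroup O]
    [Module B O] {g g' : N →ₗ[B] O} (hg : ∀ m, g (l m) = g' (l m)) : g = g' :=
  LinearMap.ext fun n => congr($(h.ext (τ := RingHom.id B) (g := g.toAddMonoidHom) (g' := g'.toAddMonoidHom)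
    (fun r x => map_smul g r x) (fun r x => map_smul g' r x) hg) n)

variable {E E' : Type u} [AddCommGroup E] [Module A E] [AddCommGroup E'] [Module B E']

/-- The base change of a linear map. -/
theorem exists_linearMap_semiBC {σ : A →+* B} {lE : E →+ E'} (hE : IsSemiBC σ lE) {l : M →+ N}
    (hl : ∀ (r : A) (x : M), l (r • x) = σ r • l x) (h : E →ₗ[A] M) :
    ∃ h' : E' →ₗ[B] N, ∀ e, h' (lE e) = l (h e) := by
  obtain ⟨g, hg, hgl⟩ := hE.exists_lift (RingHom.id B) (l.comp h.toAddMonoidHom) fun r e => by
    show l (h (r • e)) = σ r • l (h e)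
    rw [map_smul, hl]
  exact ⟨{ toFun := g, map_add' := map_add g, map_smul' := hg }, hgl⟩

/-- Linear maps out of a finitely presented module commute with flat base change. -/
theorem isSemiBC_linHom {σ : A →+* B} (hσ : σ.Flat) {lE : E →+ E'} (hE : IsSemiBC σ lE)
    [Module.FinitePresentation A E] {l : M →+ N} (hl : IsSemiBC σ l)
    (p : (E →ₗ[A] M) →+ (E' →ₗ[B] N)) (hp : ∀ h e, p h (lE e) = l (h e)) : IsSemiBC σ p := by
  obtain ⟨n, m, f, g, hf, hex⟩ := Module.FinitePresentation.exists_fin' A E
  let δ : Fin n → (Fin n → A) := fun i => Pi.single i 1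
  let r : Fin m → Fin n → A := fun i => g (Pi.single i 1)
  have hsum : ∀ x : Fin n → A, f x = ∑ i, x i • f (δ i) := fun x => by
    conv_lhs => rw [pi_eq_sum_univ x]
    simp only [map_sum, map_smul, δ]
    refine Finset.sum_congr rfl fun i _ => congrArg (fun t => x i • f t) (funext fun j => ?_)
    simp [Pi.single_apply, eq_comm]
  have hrel : ∀ i, ∑ k, r i k • f (δ k) = 0 := fun i => by
    rw [← hsum]
    exact (hex _).2 ⟨_, rfl⟩
  let e : (E →ₗ[A] M) →ₗ[A] (Fin n → M) :=
    { toFun := fun h i => h (f (δ i)), map_add' := fun _ _ => rfl, map_smul' := fun _ _ => rfl }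
  have heinj : Function.Injective e := fun h h' hh => LinearMap.ext fun x => by
    obtain ⟨x, rfl⟩ := hf x
    rw [hsum, map_sum, map_sum]
    exact Finset.sum_congr rfl fun i _ => by rw [map_smul, map_smul]; exact congrArg (x i • ·) (congrFun hh i)
  let d : (Fin n → M) →ₗ[A] (Fin m → M) :=
    { toFun := fun v i => ∑ k, r i k • v k
      map_add' := fun v v' => funext fun i => by simp [smul_add, Finset.sum_add_distrib]
      map_smul' := fun a v => funext fun i => by simp [Finset.smul_sum, smul_comm a] }
  let e' : (E' →ₗ[B] N) →ₗ[B] (Fin n → N) :=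
    { toFun := fun h i => h (lE (f (δ i))), map_add' := fun _ _ => rfl, map_smul' := fun _ _ => rfl }
  let d' : (Fin n → N) →ₗ[B] (Fin m → N) :=
    { toFun := fun v i => ∑ k, σ (r i k) • v k
      map_add' := fun v v' => funext fun i => by simp [smul_add, Finset.sum_add_distrib]
      map_smul' := fun a v => funext fun i => by simp [Finset.smul_sum, smul_comm a] }
  have hpl : ∀ (a : A) (h : E →ₗ[A] M), p (a • h) = σ a • p h := fun a h =>
    linearMap_ext_semiBC hE fun x => by
      show p (a • h) (lE x) = σ a • p h (lE x)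
      rw [hp, hp, LinearMap.smul_apply, hl.choose]
  refine isSemiBC_of_equalizer (J := Fin 1) (Q := fun _ => Fin m → M) (Q' := fun _ => Fin m → N) hσ hpl e heinj
    (fun _ => d) (fun v => ⟨fun hv => ?_, ?_⟩) e' (fun h h' hh => ?_) (fun _ => d') (fun _ h => funext fun i => ?_)
    (isSemiBC_compLeft hl (Fin n)) (fun _ => isSemiBC_compLeft hl (Fin m)) (fun h => funext fun i => ?_)
    (fun _ v => funext fun i => ?_)
  · let L := Fintype.linearCombination A v
    have hker : LinearMap.ker f ≤ LinearMap.ker L := fun x hx => by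
      obtain ⟨y, rfl⟩ := (hex x).1 hx
      rw [LinearMap.mem_ker]
      have : L.comp g = 0 := LinearMap.pi_ext' fun i => LinearMap.ext_ring (by
        show L (g (Pi.single i 1)) = 0
        rw [Fintype.linearCombination_apply]
        exact congrFun (hv 0) i)
      exact LinearMap.congr_fun this y
    refine ⟨(LinearMap.ker f).liftQ L hker ∘ₗ (f.quotKerEquivOfSurjective hf).symm.toLinearMap,
      funext fun i => ?_⟩
    show (LinearMap.ker f).liftQ L hker ((f.quotKerEquivOfSurjective hf).symm (f (δ i))) = v i
    rw [show (f.quotKerEquivOfSurjective hf).symm (f (δ i)) = Submodule.Quotient.mk (δ i) from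
      (LinearEquiv.symm_apply_eq _).2 rfl]
    show L (δ i) = v i
    simp [L, δ]
  · rintro ⟨h, rfl⟩ j
    refine funext fun i => ?_
    show ∑ k, r i k • h (f (δ k)) = 0
    have := hrel i
    simp only [← map_smul, ← map_sum] at this ⊢
    rw [this, map_zero]
  · refine linearMap_ext_semiBC hE fun x => ?_
    obtain ⟨x, rfl⟩ := hf x
    rw [hsum, map_sum, map_sum, map_sum]
    exact Finset.sum_congr rfl fun i _ => by
      rw [hE.choose, map_smul, map_smul]; exact congrArg (σ (x i) • ·) (congrFun hh i)
  · show ∑ k, σ (r i k) • h (lE (f (δ k))) = 0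
    have := hrel i
    simp only [← map_smul, ← hE.choose, ← map_sum] at this ⊢
    rw [this, map_zero, map_zero]
  · exact (hp h _).symm
  · show l (∑ k, r i k • v k) = ∑ k, σ (r i k) • l (v k)
    simp only [map_sum, hl.choose]

end Groth.Agent.H9Gen
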