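import Groth.Agent.H9Gen.HomSect
import Groth.Agent.H9Gen.LinHom
import Groth.Agent.QCoh.FT

/-!
# Flat base change of the sections of the pushforward of a sheaf of homomorphisms
-/

set_option autoImplicit false
set_option linter.style.haveILetI false
set_option linter.unusedSectionVars false
set_option backward.isDefEq.respectTransparency false
set_option backward.isDefEq.respectTransparency.types false

universe w u

open CategoryTheory CategoryTheory.Limits AlgebraicGeometry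
open Groth.Agent.StModLib

noncomputable section

namespace Groth.Agent.H9Gen

variable {S : Scheme.{u}} {𝒵 𝒲 : AlgSt.Cat S}

theorem finitePresentation_top {E : StMod.Mod 𝒵} (hE : E.IsFinPres) (x : Aff 𝒵) :
    Module.FinitePresentation Γ(StMod.sch 𝒵 x.1, ⊤) Γ(E.obj x.1, ⊤) := by
  haveI := x.2
  exact Groth.Agent.QCoh.finitePresentation_of_isFP (hE x.1) (isAffineOpen_top _)

/-- Restriction of sections as an additive map. -/
def res (F : StMod.Mod 𝒵) {y z : 𝒵.obj} (ψ : y ⟶ z) : Γ(F.obj z, ⊤) →+ Γ(F.obj y, ⊤) :=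
  AddMonoidHom.mk' (F.mapTop ψ) (F.mapTop_add ψ)

theorem res_apply (F : StMod.Mod 𝒵) {y z : 𝒵.obj} (ψ : y ⟶ z) (x : Γ(F.obj z, ⊤)) :
    res F ψ x = F.mapTop ψ x := rfl

theorem isSemiBC_res (F : StMod.QCoh 𝒵) {y z : Aff 𝒵} (ψ : y.1 ⟶ z.1) : IsSemiBC (fn ψ) (res F.obj ψ) :=
  isSemiBC_mapTop F ψ y.2 z.2

variable (E M : StMod.QCoh 𝒵)

/-- The linear maps over an affine object. -/
abbrev LHom (x : Aff 𝒵) : Type u := Γ(E.obj.obj x.1, ⊤) →ₗ[Γ(StMod.sch 𝒵 x.1, ⊤)] Γ(M.obj.obj x.1, ⊤)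

theorem exists_extend {y z : Aff 𝒵} (ψ : y.1 ⟶ z.1) (h₀ : LHom E M z) :
    ∃ h : LHom E M y, ∀ e, h (E.obj.mapTop ψ e) = M.obj.mapTop ψ (h₀ e) :=
  exists_linearMap_semiBC (isSemiBC_res E ψ) (l := res M.obj ψ) (M.obj.mapTop_smul ψ) h₀

variable {E M}

/-- The extension of a linear map along a morphism. -/
def extend {y z : Aff 𝒵} (ψ : y.1 ⟶ z.1) (h₀ : LHom E M z) : LHom E M y := (exists_extend E M ψ h₀).choose

theorem extend_apply {y z : Aff 𝒵} (ψ : y.1 ⟶ z.1) (h₀ : LHom E M z) (e : Γ(E.obj.obj z.1, ⊤)) :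
    extend ψ h₀ (E.obj.mapTop ψ e) = M.obj.mapTop ψ (h₀ e) :=
  (exists_extend E M ψ h₀).choose_spec e

theorem eq_extend {y z : Aff 𝒵} {ψ : y.1 ⟶ z.1} {h₀ : LHom E M z} {h : LHom E M y}
    (hh : ∀ e, h (E.obj.mapTop ψ e) = M.obj.mapTop ψ (h₀ e)) : h = extend ψ h₀ :=
  linearMap_ext_semiBC (isSemiBC_res E ψ) fun e => (hh e).trans (extend_apply ψ h₀ e).symm

theorem extend_comp {x y z : Aff 𝒵} (χ : x.1 ⟶ y.1) (ψ : y.1 ⟶ z.1) (h₀ : LHom E M z) :
    extend (χ ≫ ψ) h₀ = extend χ (extend ψ h₀) := by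
  refine (eq_extend fun e => ?_).symm
  rw [StMod.Mod.mapTop_comp, extend_apply, extend_apply, StMod.Mod.mapTop_comp]

/-- Extension is natural. -/
theorem mapTop_extend {x y z : Aff 𝒵} (χ : x.1 ⟶ y.1) (ψ : y.1 ⟶ z.1) (h₀ : LHom E M z)
    (e : Γ(E.obj.obj y.1, ⊤)) :
    M.obj.mapTop χ (extend ψ h₀ e) = extend (χ ≫ ψ) h₀ (E.obj.mapTop χ e) := by
  rw [extend_comp, extend_apply]

/-- Extension as an additive map. -/
def extendHom {y z : Aff 𝒵} (ψ : y.1 ⟶ z.1) : LHom E M z →+ LHom E M y :=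
  AddMonoidHom.mk' (extend ψ) fun a b => (eq_extend fun e => by
    show extend ψ a _ + extend ψ b _ = M.obj.mapTop ψ (a e + b e)
    rw [extend_apply, extend_apply, M.obj.mapTop_add]).symm

theorem extend_smul {y z : Aff 𝒵} (ψ : y.1 ⟶ z.1) (r : Γ(StMod.sch 𝒵 z.1, ⊤)) (h : LHom E M z) :
    extend ψ (r • h) = fn ψ r • extend ψ h :=
  (eq_extend fun e => by
    show fn ψ r • extend ψ h _ = M.obj.mapTop ψ (r • h e)
    rw [extend_apply, M.obj.mapTop_smul]).symm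

theorem isSemiBC_extendHom (hE : E.obj.IsFinPres) {y z : Aff 𝒵} (ψ : y.1 ⟶ z.1)
    (hψ : Flat (StMod.bmap 𝒵 ψ)) : IsSemiBC (fn ψ) (extendHom (E := E) (M := M) ψ) := by
  haveI := finitePresentation_top hE z
  exact isSemiBC_linHom (flat_fn ψ y.2 z.2 hψ) (isSemiBC_res E ψ) (isSemiBC_res M ψ) (extendHom ψ)
    fun h e => extend_apply ψ h e

/-- A cover is refined by affine objects. -/
theorem exists_aff_refine (hp : FibCat.IsFibGrpd 𝒵.p) {x : 𝒵.obj} {ι : Type u} {z : ι → 𝒵.obj}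
    {φ : ∀ i, z i ⟶ x} (h : IsCov z φ) :
    ∃ (κ : Type u) (i : κ → ι) (y : κ → Aff 𝒵) (χ : ∀ l, (y l).1 ⟶ z (i l)),
      IsCov (fun l => (y l).1) (fun l => χ l ≫ φ (i l)) := by
  choose μ w ψ hw ha _ using fun i => exists_affine_cover hp (z i)
  exact ⟨Σ i, μ i, fun l => l.1, fun l => ⟨w l.1 l.2, ha l.1 l.2⟩, fun l => ψ l.1 l.2, h.comp hw⟩

variable {k : 𝒵 ⥤ᵇ 𝒲} {η : 𝒲.obj}

/-- The values of a compatible family along a morphism. -/
theorem HomSect.eq_extend (h : HomSect k E.obj M.obj η) {y z : Aff 𝒵} (ψ : y.1 ⟶ z.1) (β : k.obj z.1 ⟶ η) :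
    h.1 y (k.map ψ ≫ β) = extend ψ (h.1 z β) :=
  H9Gen.eq_extend fun e => (h.nat ψ β e).symm

/-- The presentation object as an affine object. -/
abbrev presObj (c : Pres k η) : Aff 𝒵 := ⟨c.z, c.affz⟩

set_option maxHeartbeats 800000 in
/-- A linear map on the presentation object, compatible with the relations, is a compatible family. -/
theorem exists_homSect_of_pres (hp : FibCat.IsFibGrpd 𝒵.p) (c : Pres k η) (h₀ : LHom E M (presObj c))
    (hh : ∀ j, extend (y := ⟨c.w j, c.affw j⟩) (z := presObj c) (c.a j) h₀ =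
      extend (y := ⟨c.w j, c.affw j⟩) (z := presObj c) (c.b j) h₀) :
    ∃ h : HomSect k E.obj M.obj η, h.1 (presObj c) c.α = h₀ := by
  obtain ⟨h, hh'⟩ := exists_homSect_of_charts (k := k) (E := E.obj) (M := M.obj) (η := η) hp M.property
    (fun x β => {ψ : x.1 ⟶ c.z // k.map ψ ≫ c.α = β}) (fun x β p => extend (y := x) (z := presObj c) p.1 h₀)
    (fun y' y χ β p => ⟨⟨χ ≫ p.1, by rw [Functor.map_comp, Category.assoc, p.2]⟩,
      fun e => mapTop_extend (z := presObj c) χ p.1 h₀ e⟩)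
    (fun y β p q => by
      obtain ⟨ι, y', φ, hc, hj⟩ := c.rel y.1 p.1 q.1 (p.2.trans q.2.symm)
      obtain ⟨κ, i, v, χ, hv⟩ := exists_aff_refine hp hc
      refine LinearMap.ext fun e => (isSheaf_modSys hp M.property).1 _ _ hv _ _ fun l => ?_
      obtain ⟨j, d, ha, hb⟩ := hj (i l)
      show M.obj.mapTop (χ l ≫ φ (i l)) _ = M.obj.mapTop (χ l ≫ φ (i l)) _
      refine (mapTop_extend (z := presObj c) _ p.1 h₀ e).trans (((mapTop_extend (z := presObj c) _ q.1 h₀ e).trans ?_).symm)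
      rw [Category.assoc, Category.assoc, ← ha, ← hb, ← Category.assoc, ← Category.assoc]
      have e1 : extend (y := v l) (z := presObj c) ((χ l ≫ d) ≫ c.b j) h₀ =
          extend (y := v l) (z := presObj c) ((χ l ≫ d) ≫ c.a j) h₀ := by
        rw [extend_comp (x := v l) (y := ⟨c.w j, c.affw j⟩) (z := presObj c) (χ l ≫ d) (c.b j) h₀,
          extend_comp (x := v l) (y := ⟨c.w j, c.affw j⟩) (z := presObj c) (χ l ≫ d) (c.a j) h₀, hh j]
      exact LinearMap.congr_fun e1 _)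
    (fun x β => by
      obtain ⟨ι, y, φ, hc, hψ⟩ := c.cov x.1 β
      obtain ⟨κ, i, v, χ, hv⟩ := exists_aff_refine hp hc
      refine ⟨κ, v, _, hv, fun l => ?_⟩
      obtain ⟨ψ, hψ⟩ := hψ (i l)
      exact ⟨⟨χ l ≫ ψ, by rw [Functor.map_comp, Functor.map_comp, Category.assoc, hψ, Category.assoc]⟩⟩)
  refine ⟨h, (hh' (presObj c) c.α ⟨𝟙 _, by rw [k.map_id, Category.id_comp]⟩).trans (eq_extend fun e => ?_).symm⟩
  rw [StMod.Mod.mapTop_id, StMod.Mod.mapTop_id]

/-- The difference of two extensions is linear over the base. -/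
theorem extend_diff_smul {y z : Aff 𝒵} (a b : y.1 ⟶ z.1) {α : k.obj z.1 ⟶ η} {γ : k.obj y.1 ⟶ η}
    (ha : k.map a ≫ α = γ) (hb : k.map b ≫ α = γ) (r : Γ(StMod.sch 𝒲 η, ⊤)) (x : LHom E M z) :
    (extendHom a - extendHom b : LHom E M z →+ LHom E M y) (scl k z.1 α r • x) =
      scl k y.1 γ r • (extendHom a - extendHom b : LHom E M z →+ LHom E M y) x := by
  show extend a (scl k z.1 α r • x) - extend b (scl k z.1 α r • x) = scl k y.1 γ r • (extend a x - extend b x)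
  rw [extend_smul, extend_smul, smul_sub,
    show fn a (scl k z.1 α r) = scl k y.1 γ r from (scl_map a α r).trans (by rw [ha]),
    show fn b (scl k z.1 α r) = scl k y.1 γ r from (scl_map b α r).trans (by rw [hb])]

/-- The difference of two extensions commutes with extension. -/
theorem extend_diff_comp {y z y' z' : Aff 𝒵} {a b : y.1 ⟶ z.1} {a' b' : y'.1 ⟶ z'.1} {φ : y'.1 ⟶ y.1}
    {φ₀ : z'.1 ⟶ z.1} (ha : a' ≫ φ₀ = φ ≫ a) (hb : b' ≫ φ₀ = φ ≫ b) (x : LHom E M z) :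
    extend φ ((extendHom a - extendHom b : LHom E M z →+ LHom E M y) x) =
      (extendHom a' - extendHom b' : LHom E M z' →+ LHom E M y') (extend φ₀ x) := by
  show extendHom φ (extendHom a x - extendHom b x) = extend a' (extend φ₀ x) - extend b' (extend φ₀ x)
  rw [map_sub]
  show extend φ (extend a x) - extend φ (extend b x) = _
  rw [← extend_comp, ← extend_comp, ← extend_comp, ← extend_comp, ha, hb]

/-- A compatible family equalises extensions which agree above `η`. -/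
theorem HomSect.extend_diff_eq_zero (h : HomSect k E.obj M.obj η) {y z : Aff 𝒵} (a b : y.1 ⟶ z.1)
    (α : k.obj z.1 ⟶ η) (hab : k.map a ≫ α = k.map b ≫ α) :
    (extendHom a - extendHom b : LHom E M z →+ LHom E M y) (h.1 z α) = 0 := by
  show extend a (h.1 z α) - extend b (h.1 z α) = 0
  rw [← HomSect.eq_extend, ← HomSect.eq_extend, hab, sub_self]

/-- A compatible family is zero at an object which factors through a zero value. -/
theorem HomSect.apply_eq_zero (h : HomSect k E.obj M.obj η) {y z : Aff 𝒵} (ψ : y.1 ⟶ z.1)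
    {α : k.obj z.1 ⟶ η} (hz : h.1 z α = 0) : h.1 y (k.map ψ ≫ α) = 0 := by
  rw [HomSect.eq_extend, hz]
  exact map_zero (extendHom ψ)

/-- Families which vanish on a covering family of objects vanish. -/
theorem homSect_eq_zero (hp : FibCat.IsFibGrpd 𝒵.p) (h : HomSect k E.obj M.obj η)
    (hcov : ∀ (x : Aff 𝒵) (β : k.obj x.1 ⟶ η), ∃ (ι : Type u) (z : ι → Aff 𝒵) (φ : ∀ i, (z i).1 ⟶ x.1),
      IsCov (fun i => (z i).1) φ ∧ ∀ i, h.1 (z i) (k.map (φ i) ≫ β) = 0) : h = 0 := by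
  refine HomSect.ext fun x β e => ?_
  obtain ⟨ι, z, φ, hc, hz⟩ := hcov x β
  refine (isSheaf_modSys hp M.property).1 _ φ hc _ _ fun i => ?_
  show M.obj.mapTop (φ i) (h.1 x β e) = M.obj.mapTop (φ i) 0
  rw [h.nat, hz, M.obj.mapTop_zero]
  rfl

set_option maxHeartbeats 1600000 in
/-- Sections of the pushforward of homomorphisms out of a module of finite presentation commute with flat base
change. -/
theorem isSemiBC_homRes (hp : FibCat.IsFibGrpd 𝒵.p) (hp' : FibCat.IsFibGrpd 𝒲.p) {η' : 𝒲.obj} (b : η' ⟶ η)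
    (c : Pres k η) (hE : E.obj.IsFinPres) [IsAffine (StMod.sch 𝒲 η)] [IsAffine (StMod.sch 𝒲 η')]
    [Flat (StMod.bmap 𝒲 b)] :
    IsSemiBC (StMod.bmap 𝒲 b).appTop.hom (homRes k E.obj M.obj b) := by
  haveI := c.affz
  haveI := fun j => c.affw j
  obtain ⟨z', φ₀, α', hα', hsq₀⟩ := exists_bc_obj b hp hp' c.z c.α
  choose w' φ γ' hγ hsq using fun j => exists_bc_obj b hp hp' (c.w j) (k.map (c.a j) ≫ c.α)
  haveI : IsAffine (𝒲.p.obj η).left := ‹IsAffine (StMod.sch 𝒲 η)›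
  haveI : IsAffine (𝒲.p.obj η').left := ‹IsAffine (StMod.sch 𝒲 η')›
  haveI : IsAffine (𝒵.p.obj c.z).left := ‹IsAffine (StMod.sch 𝒵 c.z)›
  haveI : ∀ j, IsAffine (𝒵.p.obj (c.w j)).left := fun j => c.affw j
  haveI : IsAffine (StMod.sch 𝒵 z') := IsAffine.of_isIso hsq₀.isoPullback.hom
  haveI : ∀ j, IsAffine (StMod.sch 𝒵 (w' j)) := fun j => IsAffine.of_isIso (hsq j).isoPullback.hom
  have hφ₀ : Flat (StMod.bmap 𝒵 φ₀) := MorphismProperty.of_isPullback hsq₀.flip ‹Flat (StMod.bmap 𝒲 b)›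
  have hφ : ∀ j, Flat (StMod.bmap 𝒵 (φ j)) := fun j =>
    MorphismProperty.of_isPullback (hsq j).flip ‹Flat (StMod.bmap 𝒲 b)›
  choose a' ha' hab using fun j => exists_bc_hom b hp hp' hα' hsq₀ (φ j ≫ c.a j) (γ' j)
    (by rw [Functor.map_comp, Category.assoc, hγ])
  choose b' hb' hbb using fun j => exists_bc_hom b hp hp' hα' hsq₀ (φ j ≫ c.b j) (γ' j)
    (by rw [Functor.map_comp, Category.assoc, ← c.eq, hγ])
  have h₀ := isPushout_appTop_of_isPullback hsq₀.flip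
  have h₁ := fun j => isPushout_appTop_of_isPullback (hsq j).flip
  let Z : Aff 𝒵 := presObj c
  let Z' : Aff 𝒵 := ⟨z', ‹IsAffine (StMod.sch 𝒵 z')›⟩
  let W : Fin c.n → Aff 𝒵 := fun j => ⟨c.w j, c.affw j⟩
  let W' : Fin c.n → Aff 𝒵 := fun j => ⟨w' j, inferInstance⟩
  let d : ∀ j, LHom E M Z →+ LHom E M (W j) := fun j => extendHom (y := W j) (z := Z) (c.a j) - extendHom (y := W j) (z := Z) (c.b j)
  let d' : ∀ j, LHom E M Z' →+ LHom E M (W' j) := fun j => extendHom (y := W' j) (z := Z') (a' j) - extendHom (y := W' j) (z := Z') (b' j)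
  exact isSemiBC_of_diagram (A := Γ(StMod.sch 𝒲 η, ⊤)) (A' := Γ(StMod.sch 𝒲 η', ⊤)) (J := Fin c.n)
    (B := Γ(StMod.sch 𝒵 c.z, ⊤)) (B' := Γ(StMod.sch 𝒵 z', ⊤)) (C := fun j => Γ(StMod.sch 𝒵 (c.w j), ⊤))
    (C' := fun j => Γ(StMod.sch 𝒵 (w' j), ⊤)) (P := LHom E M Z) (P' := LHom E M Z')
    (Q := fun j => LHom E M (W j)) (Q' := fun j => LHom E M (W' j))
    (σ := (StMod.bmap 𝒲 b).appTop.hom) (ρ := (StMod.baseOver k c.z c.α).left.appTop.hom)
    (ρ' := (StMod.baseOver k z' α').left.appTop.hom)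
    (κ := fun j => (StMod.baseOver k (c.w j) (k.map (c.a j) ≫ c.α)).left.appTop.hom)
    (κ' := fun j => (StMod.baseOver k (w' j) (γ' j)).left.appTop.hom)
    (σ₀ := fn φ₀) (σ₁ := fun j => fn (φ j))
    (p := extendHom (y := Z') (z := Z) φ₀) (q := fun j => extendHom (y := W' j) (z := W j) (φ j))
    ((HasRingHomProperty.iff_of_isAffine (P := @Flat)).1 ‹_›)
    (homRes_smul b) (isPushout_ofHom h₀) (fun j => isPushout_ofHom (h₁ j))
    (AddMonoidHom.mk' (fun h : HomSect k E.obj M.obj η => h.1 Z c.α) fun _ _ => rfl) (fun r s => rfl)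
    ((injective_iff_map_eq_zero _).2 fun h (hz : h.1 Z c.α = 0) => homSect_eq_zero hp h fun x β => by
      obtain ⟨ι, y, ψ₁, hc, hψ⟩ := c.cov x.1 β
      obtain ⟨μ, i, v, χ, hv⟩ := exists_aff_refine hp hc
      refine ⟨μ, v, _, hv, fun l => ?_⟩
      obtain ⟨ψ, hψ⟩ := hψ (i l)
      rw [Functor.map_comp, Category.assoc, ← hψ, ← Category.assoc, ← Functor.map_comp]
      exact h.apply_eq_zero (y := v l) (z := Z) (χ l ≫ ψ) hz)
    d (fun j r x => extend_diff_smul (y := W j) (z := Z) (c.a j) (c.b j) rfl (c.eq j).symm r x)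
    (fun x => ⟨fun h => exists_homSect_of_pres hp c x fun j => sub_eq_zero.1 (h j), by
      rintro ⟨s, rfl⟩ j
      exact s.extend_diff_eq_zero (y := W j) (z := Z) (c.a j) (c.b j) c.α (c.eq j)⟩)
    (AddMonoidHom.mk' (fun h : HomSect k E.obj M.obj η' => h.1 Z' α') fun _ _ => rfl) (fun r s => rfl)
    (fun h (hz : h.1 Z' α' = 0) => homSect_eq_zero hp h fun x β' => by
      obtain ⟨ι, y, ψ₁, hc, hψ⟩ := c.cov x.1 (β' ≫ b)
      obtain ⟨μ, i, v, χ, hv⟩ := exists_aff_refine hp hc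
      refine ⟨μ, v, _, hv, fun l => ?_⟩
      obtain ⟨ψ, hψ⟩ := hψ (i l)
      obtain ⟨χ', -, e⟩ := exists_bc_hom b hp hp' hα' hsq₀ (χ l ≫ ψ) (k.map (χ l ≫ ψ₁ (i l)) ≫ β')
        (by rw [Functor.map_comp, Functor.map_comp, Category.assoc, hψ, Category.assoc, Category.assoc])
      rw [← e]
      exact h.apply_eq_zero (y := v l) (z := Z') χ' hz)
    d' (fun j r x => extend_diff_smul (y := W' j) (z := Z') (a' j) (b' j) (hab j) (hbb j) r x)
    (fun j s => s.extend_diff_eq_zero (y := W' j) (z := Z') (a' j) (b' j) α' ((hab j).trans (hbb j).symm))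
    (isSemiBC_extendHom hE (y := Z') (z := Z) φ₀ hφ₀)
    (fun j => isSemiBC_extendHom hE (y := W' j) (z := W j) (φ j) (hφ j))
    (fun s => by
      show extend (y := Z') (z := Z) φ₀ (s.1 Z c.α) = s.1 Z' (α' ≫ b)
      rw [← HomSect.eq_extend, hα'])
    (fun j x => extend_diff_comp (y := W j) (z := Z) (y' := W' j) (z' := Z') (ha' j) (hb' j) x)

end Groth.Agent.H9Gen
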