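import Groth.Agent.H9Gen.NatFam
import Groth.Agent.StModLib.FibOver

/-!
# Sections of the pushforward of a sheaf of homomorphisms
-/

set_option autoImplicit false
set_option linter.style.haveILetI false
set_option linter.unusedSectionVars false
set_option backward.isDefEq.respectTransparency false
set_option backward.isDefEq.respectTransparency.types false

universe w u

open CategoryTheory CategoryTheory.Limits AlgebraicGeometry
open Groth.Agent.StModLib

noncomputable section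

namespace Groth.Agent.H9Gen

variable {S : Scheme.{u}} {𝒵 𝒲 : AlgSt.Cat S} (k : 𝒵 ⥤ᵇ 𝒲) (E M : StMod.Mod 𝒵) (η : 𝒲.obj)

/-- Compatible families of linear maps over the affine objects above `η`. -/
def homSect : AddSubgroup
    (∀ x : Aff 𝒵, (k.obj x.1 ⟶ η) → (Γ(E.obj x.1, ⊤) →ₗ[Γ(StMod.sch 𝒵 x.1, ⊤)] Γ(M.obj x.1, ⊤))) where
  carrier := {h | ∀ ⦃x' x : Aff 𝒵⦄ (φ : x'.1 ⟶ x.1) (β : k.obj x.1 ⟶ η) (e : Γ(E.obj x.1, ⊤)),
    M.mapTop φ (h x β e) = h x' (k.map φ ≫ β) (E.mapTop φ e)}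
  zero_mem' := fun _ _ φ _ _ => M.mapTop_zero φ
  add_mem' := fun {a b} ha hb x' x φ β e => by
    show M.mapTop φ (a x β e + b x β e) = a x' _ _ + b x' _ _
    rw [M.mapTop_add, ha, hb]
  neg_mem' := fun {a} ha x' x φ β e => by
    show M.mapTop φ (-(a x β e)) = -(a x' _ _)
    rw [← ha]
    exact map_neg ((M.map φ rfl).app ⊤).hom _

/-- The type of compatible families. -/
abbrev HomSect : Type (u + 1) := ↥(homSect k E M η)

variable {k E M η}

theorem HomSect.nat (h : HomSect k E M η) {x' x : Aff 𝒵} (φ : x'.1 ⟶ x.1) (β : k.obj x.1 ⟶ η)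
    (e : Γ(E.obj x.1, ⊤)) : M.mapTop φ (h.1 x β e) = h.1 x' (k.map φ ≫ β) (E.mapTop φ e) :=
  h.2 φ β e

@[ext] theorem HomSect.ext {a b : HomSect k E M η} (h : ∀ x β e, a.1 x β e = b.1 x β e) : a = b :=
  Subtype.ext (funext fun x => funext fun β => LinearMap.ext (h x β))

variable (k) in
/-- A function on `η` as a function on an object above it. -/
def scl {η : 𝒲.obj} (x : 𝒵.obj) (β : k.obj x ⟶ η) (r : Γ(StMod.sch 𝒲 η, ⊤)) : Γ(StMod.sch 𝒵 x, ⊤) :=
  (StMod.baseOver k x β).left.appTop r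

theorem scl_apply (x : 𝒵.obj) (β : k.obj x ⟶ η) (r : Γ(StMod.sch 𝒲 η, ⊤)) :
    scl k x β r = (StMod.baseOver k x β).left.appTop r := rfl

theorem scl_map {x' x : 𝒵.obj} (φ : x' ⟶ x) (β : k.obj x ⟶ η) (r : Γ(StMod.sch 𝒲 η, ⊤)) :
    (StMod.bmap 𝒵 φ).appTop (scl k x β r) = scl k x' (k.map φ ≫ β) r :=
  appTop_baseOver φ rfl r

theorem HomSect.smul_mem (r : Γ(StMod.sch 𝒲 η, ⊤)) (h : HomSect k E M η) :
    (fun x β => scl k x.1 β r • h.1 x β) ∈ homSect k E M η := by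
  intro x' x φ β e
  show M.mapTop φ (scl k x.1 β r • h.1 x β e) = _
  rw [M.mapTop_smul, h.nat, scl_map]
  rfl

instance : Module Γ(StMod.sch 𝒲 η, ⊤) (HomSect k E M η) where
  smul r h := ⟨_, HomSect.smul_mem r h⟩
  one_smul h := HomSect.ext fun x β e => by
    show scl k x.1 β 1 • h.1 x β e = _
    rw [scl_apply, map_one]
    exact one_smul _ _
  mul_smul r s h := HomSect.ext fun x β e => by
    show scl k x.1 β (r * s) • h.1 x β e = scl k x.1 β r • scl k x.1 β s • h.1 x β e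
    rw [show scl k x.1 β (r * s) = scl k x.1 β r * scl k x.1 β s from map_mul _ r s]
    exact mul_smul _ _ _
  smul_zero r := HomSect.ext fun x β e => smul_zero _
  smul_add r a b := HomSect.ext fun x β e => smul_add _ _ _
  add_smul r s h := HomSect.ext fun x β e => by
    show scl k x.1 β (r + s) • h.1 x β e = scl k x.1 β r • h.1 x β e + scl k x.1 β s • h.1 x β e
    rw [show scl k x.1 β (r + s) = scl k x.1 β r + scl k x.1 β s from map_add _ r s]
    exact add_smul _ _ _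
  zero_smul h := HomSect.ext fun x β e => by
    show scl k x.1 β 0 • h.1 x β e = 0
    rw [show scl k x.1 β 0 = 0 from map_zero _]
    exact zero_smul _ _

theorem HomSect.smul_apply (r : Γ(StMod.sch 𝒲 η, ⊤)) (h : HomSect k E M η) (x : Aff 𝒵) (β : k.obj x.1 ⟶ η)
    (e : Γ(E.obj x.1, ⊤)) : (r • h).1 x β e = scl k x.1 β r • h.1 x β e := rfl

variable (k E M) in
/-- Restriction of compatible families. -/
def homRes {η' : 𝒲.obj} (b : η' ⟶ η) : HomSect k E M η →+ HomSect k E M η' where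
  toFun h := ⟨fun x β => h.1 x (β ≫ b), fun x' x φ β e => by
    show M.mapTop φ (h.1 x (β ≫ b) e) = h.1 x' ((k.map φ ≫ β) ≫ b) _
    rw [Category.assoc]
    exact h.nat φ (β ≫ b) e⟩
  map_zero' := rfl
  map_add' _ _ := rfl

theorem homRes_apply {η' : 𝒲.obj} (b : η' ⟶ η) (h : HomSect k E M η) (x : Aff 𝒵) (β : k.obj x.1 ⟶ η') :
    (homRes k E M b h).1 x β = h.1 x (β ≫ b) := rfl

theorem homRes_smul {η' : 𝒲.obj} (b : η' ⟶ η) (r : Γ(StMod.sch 𝒲 η, ⊤)) (h : HomSect k E M η) :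
    homRes k E M b (r • h) = (StMod.bmap 𝒲 b).appTop r • homRes k E M b h := by
  refine HomSect.ext fun x β e => ?_
  show scl k x.1 (β ≫ b) r • h.1 x (β ≫ b) e = scl k x.1 β ((StMod.bmap 𝒲 b).appTop r) • h.1 x (β ≫ b) e
  rw [show scl k x.1 β ((StMod.bmap 𝒲 b).appTop r) = scl k x.1 (β ≫ b) r by
    rw [scl_apply, scl_apply, StMod.baseOver_comp]; rfl]

theorem homRes_id (h : HomSect k E M η) : homRes k E M (𝟙 η) h = h :=
  HomSect.ext fun x β e => by rw [homRes_apply, Category.comp_id]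

theorem homRes_comp {η'' η' : 𝒲.obj} (c : η'' ⟶ η') (b : η' ⟶ η) (h : HomSect k E M η) :
    homRes k E M (c ≫ b) h = homRes k E M c (homRes k E M b h) :=
  HomSect.ext fun x β e => by rw [homRes_apply, homRes_apply, homRes_apply, Category.assoc]

/-- Composition with a morphism. -/
def HomSect.post {N : StMod.Mod 𝒵} (u : M ⟶ N) : HomSect k E M η →ₗ[Γ(StMod.sch 𝒲 η, ⊤)] HomSect k E N η where
  toFun h := ⟨fun x β => ((NatFam.ofHom u).1 x).comp (h.1 x β), fun x' x φ β e => by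
    show N.mapTop φ ((u.app x.1).app ⊤ (h.1 x β e)) = (u.app x'.1).app ⊤ (h.1 x' _ _)
    rw [StMod.Mod.mapTop_app, h.nat]⟩
  map_add' a b := HomSect.ext fun x β e => map_add ((u.app x.1).app ⊤).hom (a.1 x β e) (b.1 x β e)
  map_smul' r h := HomSect.ext fun x β e => Scheme.Modules.Hom.app_smul (u.app x.1) _ _

theorem HomSect.post_apply {N : StMod.Mod 𝒵} (u : M ⟶ N) (h : HomSect k E M η) (x : Aff 𝒵)
    (β : k.obj x.1 ⟶ η) (e : Γ(E.obj x.1, ⊤)) :
    (HomSect.post u h).1 x β e = (u.app x.1).app ⊤ (h.1 x β e) := rfl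

theorem HomSect.post_homRes {N : StMod.Mod 𝒵} (u : M ⟶ N) {η' : 𝒲.obj} (b : η' ⟶ η) (h : HomSect k E M η) :
    HomSect.post u (homRes k E M b h) = homRes k E N b (HomSect.post u h) := rfl

/-- A natural family restricts to every object. -/
def HomSect.ofNat (η : 𝒲.obj) (n : NatFam E M) : HomSect k E M η :=
  ⟨fun x _ => n.1 x, fun _ _ φ _ e => n.2 φ e⟩

/-- The objects above `η` with affine scheme, as affine objects of `𝒵`. -/
abbrev affLeft (y : Aff (StMod.fibCat k η)) : Aff 𝒵 := ⟨y.1.left, y.2⟩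

theorem isCov_fibCat {y : (StMod.fibCat k η).obj} {ι : Type u} {z : ι → 𝒵.obj} {φ : ∀ i, z i ⟶ y.left}
    (h : IsCov z φ) :
    IsCov (η := y) (fun i => (CostructuredArrow.mk (k.map (φ i) ≫ y.hom) : (StMod.fibCat k η).obj))
      (fun i => (CostructuredArrow.homMk (φ i) rfl :
        (CostructuredArrow.mk (k.map (φ i) ≫ y.hom) : (StMod.fibCat k η).obj) ⟶ y)) :=
  ⟨fun i => h.flat i, fun i => h.lfp i, fun t => h.surj t⟩

/-- Compatible families are glued from charts. -/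
theorem exists_homSect_of_charts (hp : FibCat.IsFibGrpd 𝒵.p) (hM : StMod.isQCoh 𝒵 M)
    (P : ∀ x : Aff 𝒵, (k.obj x.1 ⟶ η) → Sort w)
    (op : ∀ x β, P x β → (Γ(E.obj x.1, ⊤) →ₗ[Γ(StMod.sch 𝒵 x.1, ⊤)] Γ(M.obj x.1, ⊤)))
    (hpull : ∀ ⦃y' y : Aff 𝒵⦄ (χ : y'.1 ⟶ y.1) (β : k.obj y.1 ⟶ η) (p : P y β),
      ∃ p' : P y' (k.map χ ≫ β), ∀ e, M.mapTop χ (op y β p e) = op y' _ p' (E.mapTop χ e))
    (hind : ∀ y β (p q : P y β), op y β p = op y β q)
    (hcov : ∀ (x : Aff 𝒵) (β : k.obj x.1 ⟶ η), ∃ (ι : Type u) (z : ι → Aff 𝒵) (φ : ∀ i, (z i).1 ⟶ x.1),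
      IsCov (fun i => (z i).1) φ ∧ ∀ i, Nonempty (P (z i) (k.map (φ i) ≫ β))) :
    ∃ h : HomSect k E M η, ∀ x β (p : P x β), h.1 x β = op x β p := by
  let J := StMod.fibFst k η
  have hpJ := isFibGrpd_fibCat k η hp
  obtain ⟨n, hn⟩ := exists_natFam_of_charts hpJ (E := StMod.Mod.comap J E) (M := StMod.Mod.comap J M)
    (StMod.isQCoh_comap hM) (fun y => P (affLeft y) y.1.hom)
    (fun y p => op (affLeft y) y.1.hom p)
    (fun y' y χ p => by
      obtain ⟨p', hp'⟩ := hpull (y' := affLeft y') (y := affLeft y) χ.left y.1.hom p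
      have hw := CostructuredArrow.w χ
      revert p'
      rw [hw]
      intro p' hp'
      exact ⟨p', fun e => (cmp_mapTop J M χ (op (affLeft y) y.1.hom p e)).trans ((hp' e).trans
        (congrArg (op (affLeft y') y'.1.hom p') (cmp_mapTop J E χ e).symm))⟩)
    (fun y p q => hind (affLeft y) y.1.hom p q)
    (fun y => by
      obtain ⟨ι, z, φ, hc, hP⟩ := hcov (affLeft y) y.1.hom
      exact ⟨ι, fun i => ⟨CostructuredArrow.mk (k.map (φ i) ≫ y.1.hom), (z i).2⟩,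
        fun i => CostructuredArrow.homMk (φ i) rfl, isCov_fibCat hc, hP⟩)
  refine ⟨⟨fun x β => n.1 ⟨CostructuredArrow.mk β, x.2⟩, fun x' x φ β e => ?_⟩,
    fun x β p => hn ⟨CostructuredArrow.mk β, x.2⟩ p⟩
  let y : Aff (StMod.fibCat k η) := ⟨CostructuredArrow.mk β, x.2⟩
  let y' : Aff (StMod.fibCat k η) := ⟨CostructuredArrow.mk (k.map φ ≫ β), x'.2⟩
  let χ : y'.1 ⟶ y.1 := CostructuredArrow.homMk φ rfl
  exact (cmp_mapTop J M χ (n.1 y e)).symm.trans ((n.2 χ e).trans (congrArg (n.1 y') (cmp_mapTop J E χ e)))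

end Groth.Agent.H9Gen
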