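import Groth.Agent.H9Gen.Descent
import Groth.Agent.StModLib.FinDescent
import Groth.Agent.ConsPropLib.FibreLocFree

/-!
# Local freeness descends along flat families locally of finite presentation
-/

set_option autoImplicit false
set_option linter.style.haveILetI false
set_option linter.unusedSectionVars false
set_option backward.isDefEq.respectTransparency false
set_option backward.isDefEq.respectTransparency.types false

universe v w u

open CategoryTheory CategoryTheory.Limits AlgebraicGeometry AlgSp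
open Groth.Agent.StModLib Groth.Agent.AlgStLib Groth.Agent.AlgSpLib Groth.Agent.FibBase

noncomputable section

namespace Groth.Agent.H9Gen

theorem isFinLocFree_of_castMod {X T : Scheme.{u}} (h : X = T) {M : X.Modules}
    (hM : SheafOfModules.IsLocallyFree (R := T.ringCatSheaf) (StMod.castMod h M))
    (hM' : SheafOfModules.IsFiniteType (R := T.ringCatSheaf) (StMod.castMod h M)) : FlatMod.IsFinLocFree M := by
  subst h
  exact isFinLocFree_of_isLocallyFree hM hM'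

variable {S : Scheme.{u}} {𝒳 𝒴 : AlgSt.Cat S}

/-- Finite local freeness descends along flat families of stacks locally of finite presentation. -/
theorem isFinLocFree_of_flat_family (h𝒳 : FibCat.IsFibGrpd 𝒳.p) (h𝒴 : AlgSt.IsAlgStack Scheme.fppfPrecoverage 𝒴)
    (f : 𝒳 ⥤ᵇ 𝒴) (E : StMod.QCoh 𝒳) {A : Type v} (𝒲 : A → AlgSt.Cat S) (h𝒲 : ∀ a, FibCat.IsFibGrpd (𝒲 a).p)
    (u : ∀ a, 𝒲 a ⥤ᵇ 𝒴) (hfl : ∀ a, AlgSt.LocQ (LocP (@Flat ⊓ @LocallyOfFinitePresentation)) (u a))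
    (hsurj : ∀ p : AlgSt.Points 𝒴, ∃ (a : A) (q : AlgSt.Points (𝒲 a)), AlgSt.Points.map (u a) q = p)
    (hlf : ∀ a, ((StMod.comapQ (FibCat.fpFst f (u a))).obj E).obj.IsLocFree ∧
      ((StMod.comapQ (FibCat.fpFst f (u a))).obj E).obj.IsFinType) (ξ : 𝒳.obj) :
    FlatMod.IsFinLocFree (E.obj.obj ξ) := by
  have hp := h𝒴.isStack.1
  choose a ζ φ _ hflat hlfp ht using exists_flat_cover_of_locQ h𝒴 (f.obj ξ) 𝒲 h𝒲 u
    (P := LocP (@Flat ⊓ @LocallyOfFinitePresentation)) (fun _ _ _ h => locP_mono (fun _ _ _ h => h.1) h) hfl hsurj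
  choose ξ' ψ e h he hψ using fun t => exists_lift_map f h𝒳 hp (x := ξ) (φ t)
  let ε := eqToHom (StMod.sch_obj_eq f ξ)
  haveI hei : ∀ t, IsIso (StMod.bmap 𝒴 (e t).inv) := fun t => inferInstanceAs (IsIso (𝒴.p.map (e t).inv).left)
  have hb : ∀ t, StMod.bmap 𝒳 (ψ t) =
      (eqToHom (StMod.sch_obj_eq f (ξ' t)).symm ≫ StMod.bmap 𝒴 (e t).inv) ≫ StMod.bmap 𝒴 (φ t) ≫ ε := fun t => by
    rw [Category.assoc, ← Category.assoc (StMod.bmap 𝒴 (e t).inv), ← StMod.bmap_comp,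
      show (e t).inv ≫ φ t = f.map (ψ t) by rw [Iso.inv_comp_eq, hψ], bmap_map f (ψ t)]
    simp [ε]
  refine isFinLocFree_of_fpqc_family (fun t => StMod.bmap 𝒳 (ψ t)) (mem_fpqcPrecoverage _ (fun t => ?_)
    (fun t => ?_) fun s => ?_) (E.property.2 ξ) fun t => ?_
  · haveI := hflat t
    rw [hb]
    infer_instance
  · haveI := hlfp t (fun _ _ _ h => locP_mono (fun _ _ _ h => h.2) h)
    rw [hb]
    infer_instance
  · let t := inv ε s
    obtain ⟨r, hr⟩ := ht t
    refine ⟨t, inv (eqToHom (StMod.sch_obj_eq f (ξ' t)).symm ≫ StMod.bmap 𝒴 (e t).inv) r, ?_⟩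
    rw [hb, ← Scheme.Hom.comp_apply, IsIso.inv_hom_id_assoc, Scheme.Hom.comp_apply, hr]
    show ε (inv ε s) = s
    rw [← Scheme.Hom.comp_apply, IsIso.inv_hom_id]
    rfl
  · haveI := E.property.1 (ψ t) (g := StMod.bmap 𝒳 (ψ t)) rfl
    refine (Groth.Agent.ConsPropLib.isFinLocFree_iso (asIso
      (((Scheme.Modules.pullbackPushforwardAdjunction (StMod.bmap 𝒳 (ψ t))).homEquiv _ _).symm
        (E.obj.map (ψ t) rfl)))).2 ?_
    have hd : 𝒳.p.obj (ξ' t) = 𝒴.p.obj ((u (a t)).obj (ζ t)) := (f.w_obj (ξ' t)).symm.trans (h t).symm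
    have hl : 𝒴.p.IsHomLift (𝟙 (𝒳.p.obj (ξ' t))) (e t).inv := IsHomLift.of_fac' 𝒴.p _ _ (f.w_obj (ξ' t)) hd.symm (by
      refine (cancel_epi (𝒴.p.map (e t).hom)).1 ?_
      rw [← Functor.map_comp, Iso.hom_inv_id, CategoryTheory.Functor.map_id, he t]
      simp)
    let X : (FibCat.fp f (u (a t))).obj := ⟨{ fst := ξ' t, snd := ζ t, iso := (e t).symm }, hl⟩
    exact isFinLocFree_of_castMod (StMod.sch_obj_eq (FibCat.fpFst f (u (a t))) X) ((hlf (a t)).1 X) ((hlf (a t)).2 X)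

end Groth.Agent.H9Gen
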