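import Groth.Agent.StModLib.PushQCoh
import Groth.Prelude.Def_StMod6

/-!
# Natural families of linear maps on affine objects, and gluing them from charts
-/

set_option autoImplicit false
set_option linter.style.haveILetI false
set_option linter.unusedSectionVars false
set_option backward.isDefEq.respectTransparency false
set_option backward.isDefEq.respectTransparency.types false

universe w u

open CategoryTheory CategoryTheory.Limits AlgebraicGeometry
open Groth.Agent.StModLib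

noncomputable section

namespace Groth.Agent.H9Gen

variable {S : Scheme.{u}} {𝒵 : AlgSt.Cat S}

/-- The objects with affine scheme. -/
abbrev Aff (𝒵 : AlgSt.Cat S) : Type (u + 1) := {x : 𝒵.obj // IsAffine (StMod.sch 𝒵 x)}

theorem isStableAff_aff : IsStableAff (Subtype.val : Aff 𝒵 → 𝒵.obj) :=
  fun η _ _ h => ⟨⟨η, h⟩, ⟨Iso.refl _⟩⟩

theorem isDense_aff (hp : FibCat.IsFibGrpd 𝒵.p) : IsDense (Subtype.val : Aff 𝒵 → 𝒵.obj) := fun η => by
  obtain ⟨ι, z, φ, hc, ha, -⟩ := exists_affine_cover hp η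
  exact ⟨ι, fun i => ⟨z i, ha i⟩, φ, hc⟩

/-- Natural families of linear maps between the global sections over affine objects. -/
def natFam (E M : StMod.Mod 𝒵) :
    AddSubgroup (∀ x : Aff 𝒵, Γ(E.obj x.1, ⊤) →ₗ[Γ(StMod.sch 𝒵 x.1, ⊤)] Γ(M.obj x.1, ⊤)) where
  carrier := {h | ∀ ⦃x' x : Aff 𝒵⦄ (φ : x'.1 ⟶ x.1) (e : Γ(E.obj x.1, ⊤)),
    M.mapTop φ (h x e) = h x' (E.mapTop φ e)}
  zero_mem' := fun _ _ φ _ => M.mapTop_zero φ
  add_mem' := fun {a b} ha hb x' x φ e => by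
    show M.mapTop φ (a x e + b x e) = a x' _ + b x' _
    rw [M.mapTop_add, ha, hb]
  neg_mem' := fun {a} ha x' x φ e => by
    show M.mapTop φ (-(a x e)) = -(a x' _)
    rw [← ha]
    exact map_neg ((M.map φ rfl).app ⊤).hom _

/-- The type of natural families. -/
abbrev NatFam (E M : StMod.Mod 𝒵) : Type (u + 1) := ↥(natFam E M)

/-- A morphism of modules gives a natural family. -/
def NatFam.ofHom {E M : StMod.Mod 𝒵} (u : E ⟶ M) : NatFam E M :=
  ⟨fun x => { toFun := (u.app x.1).app ⊤, map_add' := map_add _,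
              map_smul' := fun r v => Scheme.Modules.Hom.app_smul (u.app x.1) r v },
    fun _ _ φ e => StMod.Mod.mapTop_app u φ e⟩

theorem NatFam.ofHom_apply {E M : StMod.Mod 𝒵} (u : E ⟶ M) (x : Aff 𝒵) (e : Γ(E.obj x.1, ⊤)) :
    (NatFam.ofHom u).1 x e = (u.app x.1).app ⊤ e := rfl

/-- Composition with a morphism. -/
def NatFam.post {E M N : StMod.Mod 𝒵} (u : M ⟶ N) : NatFam E M →+ NatFam E N where
  toFun h := ⟨fun x => ((NatFam.ofHom u).1 x).comp (h.1 x), fun x' x φ e => by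
    show N.mapTop φ ((u.app x.1).app ⊤ (h.1 x e)) = (u.app x'.1).app ⊤ (h.1 x' _)
    rw [StMod.Mod.mapTop_app, h.2 φ e]⟩
  map_zero' := Subtype.ext (funext fun x => LinearMap.ext fun e => map_zero ((u.app x.1).app ⊤).hom)
  map_add' a b := Subtype.ext (funext fun x => LinearMap.ext fun e =>
    map_add ((u.app x.1).app ⊤).hom (a.1 x e) (b.1 x e))

theorem NatFam.post_apply {E M N : StMod.Mod 𝒵} (u : M ⟶ N) (h : NatFam E M) (x : Aff 𝒵)
    (e : Γ(E.obj x.1, ⊤)) : (NatFam.post u h).1 x e = (u.app x.1).app ⊤ (h.1 x e) := rfl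

variable (hp : FibCat.IsFibGrpd 𝒵.p)

include hp in
/-- A morphism is determined on affine objects. -/
theorem hom_ext_aff {M N : StMod.QCoh 𝒵} {u v : M ⟶ N}
    (h : ∀ (x : Aff 𝒵) (m : Γ(M.obj.obj x.1, ⊤)), (u.hom.app x.1).app ⊤ m = (v.hom.app x.1).app ⊤ m) :
    u = v :=
  InducedCategory.hom_ext (hom_ext_of_dense hp (isDense_aff hp) N.property h)

include hp in
/-- A natural family is a morphism. -/
theorem exists_hom_natFam {E M : StMod.Mod 𝒵} (hM : StMod.isQCoh 𝒵 M) (h : NatFam E M) :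
    ∃ a : E ⟶ M, ∀ (x : Aff 𝒵) (e : Γ(E.obj x.1, ⊤)), (a.app x.1).app ⊤ e = h.1 x e :=
  exists_hom_of_denseAff hp (isDense_aff hp) isStableAff_aff hM (fun x => (h.1 x).toAddMonoidHom)
    (fun x r e => map_smul (h.1 x) r e) (fun {x' x} φ e => h.2 φ e)

include hp in
/-- Natural families are glued from charts. -/
theorem exists_natFam_of_charts {E M : StMod.Mod 𝒵} (hM : StMod.isQCoh 𝒵 M) (P : Aff 𝒵 → Sort w)
    (op : ∀ y, P y → (Γ(E.obj y.1, ⊤) →ₗ[Γ(StMod.sch 𝒵 y.1, ⊤)] Γ(M.obj y.1, ⊤)))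
    (hpull : ∀ ⦃y' y : Aff 𝒵⦄ (χ : y'.1 ⟶ y.1) (p : P y), ∃ p' : P y', ∀ e,
      M.mapTop χ (op y p e) = op y' p' (E.mapTop χ e))
    (hind : ∀ y (p q : P y), op y p = op y q)
    (hcov : ∀ x : Aff 𝒵, ∃ (ι : Type u) (z : ι → Aff 𝒵) (φ : ∀ i, (z i).1 ⟶ x.1),
      IsCov (fun i => (z i).1) φ ∧ ∀ i, Nonempty (P (z i))) :
    ∃ h : NatFam E M, ∀ y (p : P y), h.1 y = op y p := by
  let T := {y : Aff 𝒵 // Nonempty (P y)}
  have hs : IsStableAff (fun t : T => t.1.1) := fun η t χ hη =>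
    ⟨⟨⟨η, hη⟩, t.2.map fun p => (hpull (y' := ⟨η, hη⟩) χ p).choose⟩, ⟨Iso.refl _⟩⟩
  have hd : IsDense (fun t : T => t.1.1) := fun η => by
    obtain ⟨ι, z, φ, hc, ha, -⟩ := exists_affine_cover hp η
    choose μ w ψ hw hP using fun i => hcov ⟨z i, ha i⟩
    exact ⟨Σ i, μ i, fun l => ⟨w l.1 l.2, hP l.1 l.2⟩, fun l => ψ l.1 l.2 ≫ φ l.1, hc.comp hw⟩
  obtain ⟨a, ha⟩ := exists_hom_of_denseAff hp hd hs hM
    (fun t : T => (op t.1 t.2.some).toAddMonoidHom) (fun t r e => map_smul (op t.1 t.2.some) r e)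
    (fun {t' t} φ e => by
      obtain ⟨p', hp'⟩ := hpull φ t.2.some
      exact (hp' e).trans (LinearMap.congr_fun (hind _ p' t'.2.some) _))
  exact ⟨NatFam.ofHom a, fun y p => LinearMap.ext fun e =>
    (ha ⟨y, ⟨p⟩⟩ e).trans (LinearMap.congr_fun (hind _ _ p) e)⟩

end Groth.Agent.H9Gen
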