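import Groth.Prelude.Def_StMod3
import Groth.Agent.EtLC12.AssocUnit
import Groth.Agent.QCoh.Pullback

/-!
# Modules of a scheme as modules on a category over it
-/

set_option autoImplicit false
set_option linter.style.haveILetI false
set_option linter.unusedSectionVars false
set_option backward.isDefEq.respectTransparency false
set_option backward.isDefEq.respectTransparency.types false

universe u

open CategoryTheory CategoryTheory.Limits AlgebraicGeometry
open Groth.Agent.EtLC12.AssocUnit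

noncomputable section

namespace Groth.Agent.H9Gen.PullMod

variable {W X X' X'' : Scheme.{u}} {M N : W.Modules}

/-- Maps out of a pullback are determined on pulled back sections. -/
theorem hom_ext_usec {t : X ⟶ W} {P : X.Modules} {a b : (Scheme.Modules.pullback t).obj M ⟶ P}
    (h : ∀ (O : W.Opens) (x : Γ(M, O)), a.app (t ⁻¹ᵁ O) (usec t M O x) = b.app (t ⁻¹ᵁ O) (usec t M O x)) : a = b := by
  apply ((Scheme.Modules.pullbackPushforwardAdjunction t).homEquiv M P).injective
  simp only [Adjunction.homEquiv_unit]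
  exact Scheme.Modules.hom_ext _ _ fun O => ConcreteCategory.hom_ext _ _ fun x => h O x

variable (M)

/-- The comparison of pullbacks. -/
def uIso {g : X' ⟶ X} {t : X ⟶ W} {t' : X' ⟶ W} (h : g ≫ t = t') :
    (Scheme.Modules.pullback g).obj ((Scheme.Modules.pullback t).obj M) ≅ (Scheme.Modules.pullback t').obj M :=
  (Scheme.Modules.pullbackComp g t).app M ≪≫ eqToIso (congrArg (fun s => (Scheme.Modules.pullback s).obj M) h)

/-- The comparison map of pullbacks. -/
def mapT {g : X' ⟶ X} {t : X ⟶ W} {t' : X' ⟶ W} (h : g ≫ t = t') :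
    (Scheme.Modules.pullback t).obj M ⟶
      (Scheme.Modules.pushforward g).obj ((Scheme.Modules.pullback t').obj M) :=
  (Scheme.Modules.pullbackPushforwardAdjunction g).homEquiv _ _ (uIso M h).hom

theorem mapT_usec {g : X' ⟶ X} {t : X ⟶ W} {t' : X' ⟶ W} (h : g ≫ t = t') (O : W.Opens) (x : Γ(M, O)) :
    (mapT M h).app (t ⁻¹ᵁ O) (usec t M O x) =
      ((Scheme.Modules.pullback t').obj M).presheaf.map (eqToHom (by subst h; rfl)).op (usec t' M O x) := by
  subst h
  simp only [mapT, Adjunction.homEquiv_unit]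
  show ((uIso M (rfl : g ≫ t = g ≫ t)).hom).app (g ⁻¹ᵁ (t ⁻¹ᵁ O)) (usec g _ (t ⁻¹ᵁ O) (usec t M O x)) = _
  simp only [uIso, eqToIso_refl, Iso.trans_refl, Iso.app_hom, eqToHom_refl]
  exact (usec_comp g t M O x).trans (QCoh.map_id' (M := (Scheme.Modules.pullback (g ≫ t)).obj M) (𝟙 ((g ≫ t) ⁻¹ᵁ O)) _).symm

set_option maxHeartbeats 1600000 in
/-- The comparisons along a composite. -/
theorem mapT_comp {h : X'' ⟶ X'} {g : X' ⟶ X} {t : X ⟶ W} {t' : X' ⟶ W} {t'' : X'' ⟶ W} (e : g ≫ t = t')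
    (e' : h ≫ t' = t'') (e'' : (h ≫ g) ≫ t = t'') :
    mapT M e'' = mapT M e ≫ (Scheme.Modules.pushforward g).map (mapT M e') ≫
      (Scheme.Modules.pushforwardComp h g).hom.app ((Scheme.Modules.pullback t'').obj M) := by
  refine hom_ext_usec fun O x => ?_
  show (mapT M e'').app (t ⁻¹ᵁ O) (usec t M O x) =
    (mapT M e').app (g ⁻¹ᵁ (t ⁻¹ᵁ O)) ((mapT M e).app (t ⁻¹ᵁ O) (usec t M O x))
  rw [mapT_usec M e'', mapT_usec M e]
  refine Eq.trans ?_ (QCoh.map_app_comm (mapT M e')
    (eqToHom (by subst e; rfl) : g ⁻¹ᵁ (t ⁻¹ᵁ O) ⟶ t' ⁻¹ᵁ O) (usec t' M O x)).symm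
  rw [mapT_usec M e']
  exact (QCoh.map_map (M := (Scheme.Modules.pullback t'').obj M) _ _ _).symm

/-- The comparison along the identity. -/
theorem mapT_id {t : X ⟶ W} (e : 𝟙 X ≫ t = t) :
    mapT M e ≫ (Scheme.Modules.pushforwardId X).hom.app ((Scheme.Modules.pullback t).obj M) = 𝟙 _ := by
  refine hom_ext_usec fun O x => ?_
  show (mapT M e).app (t ⁻¹ᵁ O) (usec t M O x) = usec t M O x
  rw [mapT_usec M e]
  exact QCoh.map_id' (M := (Scheme.Modules.pullback t).obj M) _ _

/-- The comparisons are natural in the module. -/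
theorem mapT_natural {N : W.Modules} {g : X' ⟶ X} {t : X ⟶ W} {t' : X' ⟶ W} (e : g ≫ t = t') (v : M ⟶ N) :
    mapT M e ≫ (Scheme.Modules.pushforward g).map ((Scheme.Modules.pullback t').map v) =
      (Scheme.Modules.pullback t).map v ≫ mapT N e := by
  refine hom_ext_usec fun O x => ?_
  show ((Scheme.Modules.pullback t').map v).app (g ⁻¹ᵁ (t ⁻¹ᵁ O)) ((mapT M e).app (t ⁻¹ᵁ O) (usec t M O x)) =
    (mapT N e).app (t ⁻¹ᵁ O) (((Scheme.Modules.pullback t).map v).app (t ⁻¹ᵁ O) (usec t M O x))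
  have hn : ∀ {Y : Scheme.{u}} (s : Y ⟶ W), ((Scheme.Modules.pullback s).map v).app (s ⁻¹ᵁ O) (usec s M O x) =
      usec s N O (v.app O x) := fun s =>
    (congrArg (fun a : M ⟶ (Scheme.Modules.pushforward s).obj _ => a.app O x)
      ((Scheme.Modules.pullbackPushforwardAdjunction s).unit.naturality v)).symm
  rw [mapT_usec M e, hn, mapT_usec N e, ← hn]
  exact QCoh.map_app_comm ((Scheme.Modules.pullback t').map v) _ _

variable {S : Scheme.{u}} {𝒜 : AlgSt.Cat S} (t : ∀ y : 𝒜.obj, StMod.sch 𝒜 y ⟶ W)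
  (ht : ∀ {y' y : 𝒜.obj} (φ : y' ⟶ y), StMod.bmap 𝒜 φ ≫ t y = t y')

/-- A module of a scheme read on every object over it. -/
def obj : StMod.Mod 𝒜 where
  obj y := (Scheme.Modules.pullback (t y)).obj M
  map φ _ hg := mapT M (hg ▸ ht φ)
  map_id y := mapT_id M _
  map_comp {y'' y' y} ψ φ {h g} hh hg := mapT_comp M _ _ _

theorem isQCoh_obj (hM : Coh.IsQCoh M) : StMod.isQCoh 𝒜 (obj M t ht) := by
  refine ⟨fun y' y φ g hg => ?_, fun y => QCoh.isQCoh_pullback (t y) hM⟩
  show IsIso (((Scheme.Modules.pullbackPushforwardAdjunction g).homEquiv _ _).symm (mapT M _))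
  rw [mapT, Equiv.symm_apply_apply]
  infer_instance

/-- The module as an object of `QCoh`. -/
def qobj (hM : Coh.IsQCoh M) : StMod.QCoh 𝒜 := ⟨obj M t ht, isQCoh_obj M t ht hM⟩

variable {M}

/-- A morphism of modules read on every object. -/
def map (v : M ⟶ N) : obj M t ht ⟶ obj N t ht where
  app y := (Scheme.Modules.pullback (t y)).map v
  comm {y' y} φ g hg := mapT_natural M _ v

end Groth.Agent.H9Gen.PullMod
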