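import Groth.Agent.H9Gen.HomBC
import Groth.Agent.StModLib.PairGlue

/-!
# The pushforward of a sheaf of homomorphisms, and generators
-/

set_option autoImplicit false
set_option linter.style.haveILetI false
set_option linter.unusedSectionVars false
set_option backward.isDefEq.respectTransparency false
set_option backward.isDefEq.respectTransparency.types false

universe w u

open CategoryTheory CategoryTheory.Limits AlgebraicGeometry
open Groth.Agent.StModLib

noncomputable section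

namespace Groth.Agent.H9Gen

variable {S : Scheme.{u}} {𝒵 𝒲 : AlgSt.Cat S} {x₀ : 𝒲.obj} (k : 𝒵 ⥤ᵇ 𝒲) (hp : FibCat.IsFibGrpd 𝒵.p)
  (hp' : FibCat.IsFibGrpd 𝒲.p)

include hp' in
/-- A morphism is determined on the flat members. -/
theorem hom_ext_flatMem (hd : IsDenseObj x₀) {G G' : StMod.QCoh 𝒲} {a b : G ⟶ G'}
    (h : ∀ (p : FMem x₀) (x : Γ(G.obj.obj p.1, ⊤)),
      (a.hom.app p.1).app ⊤ x = (b.hom.app p.1).app ⊤ x) : a = b := by
  refine InducedCategory.hom_ext (hom_ext_of_dense hp' (isDense_dMem hp' hd) G'.property fun t x => ?_)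
  let A : Aff 𝒲 := ⟨t.1, t.2.1⟩
  let B : Aff 𝒲 := ⟨(dp t).1, (dp t).2.1⟩
  have e : (NatFam.ofHom a.hom).1 A = (NatFam.ofHom b.hom).1 A :=
    linearMap_ext_semiBC (isSemiBC_res G (y := A) (z := B) (da t)) fun m => by
      show (a.hom.app t.1).app ⊤ (G.obj.mapTop (da t) m) = (b.hom.app t.1).app ⊤ (G.obj.mapTop (da t) m)
      rw [← StMod.Mod.mapTop_app, ← StMod.Mod.mapTop_app, h]
  exact LinearMap.congr_fun e x

include hp hp' in
/-- Compatible families over the flat members glue to a natural family. -/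
theorem exists_natFam_of_flatMem (P : PairAtlas x₀) (hd : IsDenseObj x₀) {E M : StMod.Mod 𝒵}
    (hM : StMod.isQCoh 𝒵 M) (s : ∀ p : FMem x₀, HomSect k E M p.1)
    (hs : ∀ {p q : FMem x₀} (f : p.1 ⟶ q.1), homRes k E M f (s q) = s p) :
    ∃ n : NatFam E M, ∀ (p : FMem x₀) (x : Aff 𝒵) (β : k.obj x.1 ⟶ p.1), n.1 x = (s p).1 x β := by
  obtain ⟨n, hn⟩ := exists_natFam_of_charts hp hM (fun x : Aff 𝒵 => Σ p : FMem x₀, (k.obj x.1 ⟶ p.1))
    (fun x c => (s c.1).1 x c.2)
    (fun y' y χ c => ⟨⟨c.1, k.map χ ≫ c.2⟩, fun e => (s c.1).nat χ c.2 e⟩)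
    (fun y a b => by
      obtain ⟨κ, R, c, d, -, -, hcov, -⟩ := exists_pair hp' P a.1 b.1
      obtain ⟨ι, z, φ, hφ, hz⟩ := hcov (k.obj y.1) a.2 b.2
      obtain ⟨y', φ', m, hy', hm⟩ := exists_cov_lift k hp hp' hφ
      obtain ⟨μ, i, v, χ, hv⟩ := exists_aff_refine hp hy'
      refine LinearMap.ext fun e => (isSheaf_modSys hp hM).1 _ _ hv _ _ fun l => ?_
      obtain ⟨-, r, g, hg₁, hg₂⟩ := hz (i l)
      have key : ∀ (p : FMem x₀) (β : k.obj y.1 ⟶ p.1) (q : (R r).1 ⟶ p.1), g ≫ q = φ (i l) ≫ β →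
          M.mapTop (χ l ≫ φ' (i l)) ((s p).1 y β e) =
            (s (R r)).1 (v l) (k.map (χ l) ≫ m (i l) ≫ g) (E.mapTop (χ l ≫ φ' (i l)) e) := fun p β q hq => by
        refine ((s p).nat (x' := v l) (x := y) (χ l ≫ φ' (i l)) β e).trans ?_
        rw [← hs q, homRes_apply, Category.assoc, Category.assoc, hq, ← Category.assoc (m (i l)), hm,
          ← Category.assoc, ← Functor.map_comp]
      exact (key a.1 a.2 (c r) hg₁).trans (key b.1 b.2 (d r) hg₂).symm)
    (fun x => by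
      obtain ⟨ι, t, g, hg⟩ := isDense_dMem hp' hd (k.obj x.1)
      obtain ⟨y', φ', m, hy', hm⟩ := exists_cov_lift k hp hp' hg
      obtain ⟨μ, i, v, χ, hv⟩ := exists_aff_refine hp hy'
      exact ⟨μ, v, _, hv, fun l => ⟨⟨dp (t (i l)), k.map (χ l) ≫ m (i l) ≫ da (t (i l))⟩⟩⟩)
  exact ⟨n, fun p x β => hn x ⟨p, β⟩⟩

variable (E : StMod.QCoh 𝒵) (hE : E.obj.IsFinPres)

/-- The evaluation at the presentation is injective. -/
theorem injective_ev_pres {k : 𝒵 ⥤ᵇ 𝒲} (hp : FibCat.IsFibGrpd 𝒵.p) {η : 𝒲.obj} (c : Pres k η)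
    (E M : StMod.QCoh 𝒵) : Function.Injective fun h : HomSect k E.obj M.obj η => h.1 (presObj c) c.α := by
  intro h h' (hh : h.1 (presObj c) c.α = h'.1 (presObj c) c.α)
  refine sub_eq_zero.1 (homSect_eq_zero hp (h - h') fun x β => ?_)
  obtain ⟨ι, y, φ, hc, hψ⟩ := c.cov x.1 β
  obtain ⟨μ, i, v, χ, hv⟩ := exists_aff_refine hp hc
  refine ⟨μ, v, _, hv, fun l => ?_⟩
  obtain ⟨ψ, hψ⟩ := hψ (i l)
  rw [Functor.map_comp, Category.assoc, ← hψ, ← Category.assoc, ← Functor.map_comp]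
  exact (h - h').apply_eq_zero (y := v l) (z := presObj c) (χ l ≫ ψ) (sub_eq_zero.2 hh)

include hp hp' hE in
/-- The pushforward of the sheaf of homomorphisms, known by its sections over the flat members. -/
theorem exists_pushHom (P : PairAtlas x₀) (hd : IsDenseObj x₀)
    (hpres : ∀ η : 𝒲.obj, IsAffine (StMod.sch 𝒲 η) → Nonempty (Pres k η)) (M : StMod.QCoh 𝒵) :
    ∃ (G : StMod.QCoh 𝒲) (θ : ∀ p : FMem x₀, Γ(G.obj.obj p.1, ⊤) →+ HomSect k E.obj M.obj p.1),
      (∀ p, Function.Bijective (θ p)) ∧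
      (∀ (p : FMem x₀) (r : Γ(StMod.sch 𝒲 p.1, ⊤)) (x : Γ(G.obj.obj p.1, ⊤)), θ p (r • x) = r • θ p x) ∧
      ∀ {p q : FMem x₀} (f : p.1 ⟶ q.1) (x : Γ(G.obj.obj q.1, ⊤)),
        θ p (G.obj.mapTop f x) = homRes k E.obj M.obj f (θ q x) := by
  let c : ∀ p : FMem x₀, Pres k p.1 := fun p => (hpres p.1 p.2.1).some
  haveI hs : ∀ p : FMem x₀, Small.{u} (HomSect k E.obj M.obj p.1) := fun p =>
    small_of_injective (injective_ev_pres hp (c p) E M)
  let e : ∀ p : FMem x₀, HomSect k E.obj M.obj p.1 ≃ Shrink.{u} (HomSect k E.obj M.obj p.1) :=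
    fun p => equivShrink _
  let N : DSys (Subtype.val : FMem x₀ → 𝒲.obj) :=
    { obj := fun p => Shrink.{u} (HomSect k E.obj M.obj p.1)
      res := fun {p q} f => AddMonoidHom.mk' (fun x => e p (homRes k E.obj M.obj f ((e q).symm x))) fun x y => by
        simp only [e, equivShrink_symm_add, map_add, equivShrink_add]
      res_smul := fun {p q} f r x => by
        show e p (homRes k E.obj M.obj f ((e q).symm (r • x))) = _ • e p _
        simp only [e, equivShrink_symm_smul, homRes_smul, equivShrink_smul]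
      res_id := fun p x => by
        show e p (homRes k E.obj M.obj (𝟙 p.1) ((e p).symm x)) = x
        rw [homRes_id, Equiv.apply_symm_apply]
      res_comp := fun {p q r} f g x => by
        show e p (homRes k E.obj M.obj (f ≫ g) ((e r).symm x)) =
          e p (homRes k E.obj M.obj f ((e q).symm (e q _)))
        rw [Equiv.symm_apply_apply, homRes_comp] }
  have hfl : FlatBC N := fun p q f hf => by
    haveI := p.2.1
    haveI := q.2.1
    haveI := hf
    have hbc := isSemiBC_homRes (M := M) hp hp' f (c q) hE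
    obtain ⟨L, hL⟩ := exists_tensor_map (σ := fn f) (homRes k E.obj M.obj f) hbc.choose
    obtain ⟨L', hL', hb'⟩ := isSemiBC_conj ⟨L, hL, bijective_of_isSemiBC hbc L hL⟩
      (Shrink.linearEquiv.{u} Γ(StMod.sch 𝒲 q.1, ⊤) (HomSect k E.obj M.obj q.1))
      (Shrink.linearEquiv.{u} Γ(StMod.sch 𝒲 p.1, ⊤) (HomSect k E.obj M.obj p.1)).symm
    exact isSemiBC_of_bijective' (N.res_smul f) L' hL' hb'
  obtain ⟨G, θ, hb, hl, hn⟩ := exists_qcoh_of_flatBC hp' P hd N hfl
  refine ⟨G, fun p => (Shrink.addEquiv (α := HomSect k E.obj M.obj p.1)).toAddMonoidHom.comp (θ p),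
    fun p => (Shrink.addEquiv (α := HomSect k E.obj M.obj p.1)).bijective.comp (hb p), fun p r x => ?_,
    fun {p q} f x => ?_⟩
  · exact (congrArg (e p).symm (hl p r x)).trans (equivShrink_symm_smul r (θ p x))
  · exact (congrArg (e p).symm (hn f x)).trans ((e p).symm_apply_apply _)

include hp hp' hE in
/-- If a morphism of modules kills the families coming from morphisms out of generators of the base into the
pushforward, it kills all families. -/
theorem post_eq_zero_of_gen (P : PairAtlas x₀) (hd : IsDenseObj x₀)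
    (hpres : ∀ η : 𝒲.obj, IsAffine (StMod.sch 𝒲 η) → Nonempty (Pres k η)) {J : Type w} (F : J → StMod.QCoh 𝒲)
    (hF : StMod.IsGenFam F) {M N : StMod.QCoh 𝒵} (u : M ⟶ N)
    (h : ∀ (j : J) (s : ∀ p : FMem x₀, Γ((F j).obj.obj p.1, ⊤) →ₗ[Γ(StMod.sch 𝒲 p.1, ⊤)]
        HomSect k E.obj M.obj p.1),
      (∀ {p q : FMem x₀} (f : p.1 ⟶ q.1) (e : Γ((F j).obj.obj q.1, ⊤)),
        homRes k E.obj M.obj f (s q e) = s p ((F j).obj.mapTop f e)) →
      ∀ p e, HomSect.post u.hom (s p e) = 0) :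
    ∀ (p : FMem x₀) (s : HomSect k E.obj M.obj p.1), HomSect.post u.hom s = 0 := by
  obtain ⟨GM, θM, hbM, hlM, hnM⟩ := exists_pushHom k hp hp' E hE P hd hpres M
  obtain ⟨GN, θN, hbN, hlN, hnN⟩ := exists_pushHom k hp hp' E hE P hd hpres N
  have hex : ∀ p x, ∃ y, θN p y = HomSect.post u.hom (θM p x) := fun p x => (hbN p).2 _
  choose m hm using hex
  obtain ⟨a, ha⟩ := exists_hom_of_flatMem hp' P hd (G := GM) (G' := GN)
    (m := fun p => AddMonoidHom.mk' (m p) fun x y => (hbN p).1 (by rw [hm, map_add, map_add, map_add, hm, hm]))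
    ⟨fun p r x => (hbN p).1 (by
        show θN p (m p (r • x)) = θN p (r • m p x)
        rw [hlN, hm, hm, hlM, map_smul]),
      fun {p q} f x => (hbN p).1 (by
        show θN p (GN.obj.mapTop f (m q x)) = θN p (m p (GM.obj.mapTop f x))
        rw [hnN, hm, hm, hnM, HomSect.post_homRes])⟩
  have ha' : ∀ p x, θN p ((a.hom.app p.1).app ⊤ x) = HomSect.post u.hom (θM p x) := fun p x =>
    (congrArg (θN p) (ha p x)).trans (hm p x)
  have h0 : a = 0 := (StMod.isGenFam_iff F).1 hF a fun j φ => by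
    have key := h j (fun p =>
      { toFun := fun e => θM p ((φ.app p.1).app ⊤ e)
        map_add' := fun e e' => by rw [map_add, map_add]
        map_smul' := fun r e => by rw [Scheme.Modules.Hom.app_smul, hlM]; rfl })
      fun {p q} f e => by
        show homRes k E.obj M.obj f (θM q _) = θM p _
        rw [← hnM, StMod.Mod.mapTop_app]
    exact congrArg InducedCategory.Hom.hom (hom_ext_flatMem hp' hd (a := ObjectProperty.homMk φ ≫ a) (b := 0)
      fun p e => (hbN p).1 ((ha' p _).trans ((key p e).trans (map_zero (θN p)).symm)))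
  intro p s
  obtain ⟨x, rfl⟩ := (hbM p).2 s
  rw [← ha' p x, h0]
  exact map_zero (θN p)

end Groth.Agent.H9Gen
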