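import Groth.Agent.H9Gen.AffBC
import Groth.Agent.StModLib.SysHom
import Groth.Agent.StModLib.AffineMorExact
import Groth.Agent.StModLib.ExactCore
import Groth.Agent.QCoh.Qcqs
import Mathlib.AlgebraicGeometry.QuasiAffine

/-!
# The structure sheaf generates over a quasi-affine final object
-/

set_option autoImplicit false
set_option linter.style.haveILetI false
set_option linter.unusedSectionVars false
set_option backward.isDefEq.respectTransparency false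
set_option backward.isDefEq.respectTransparency.types false

universe v w u

open CategoryTheory CategoryTheory.Limits AlgebraicGeometry AlgSp
open Groth.Agent.StModLib Groth.Agent.AlgStLib Groth.Agent.FibBase

noncomputable section

namespace Groth.Agent.H9Gen

variable {S : Scheme.{u}} {𝒜 : AlgSt.Cat S}

/-- The structure sheaf generates when there is a final object over a quasi-affine scheme. -/
theorem isGenFam_O_of_quasiAffine (hp : FibCat.IsFibGrpd 𝒜.p) (w₀ : 𝒜.obj)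
    (hw : (StMod.sch 𝒜 w₀).IsQuasiAffine) (hex : ∀ x : 𝒜.obj, Nonempty (x ⟶ w₀))
    (huniq : ∀ {x : 𝒜.obj} (a b : x ⟶ w₀), a = b) :
    StMod.IsGenFam fun _ : PUnit.{u + 1} => StMod.OQ 𝒜 := by
  haveI := hw
  refine (StMod.isGenFam_iff _).2 fun M N v hv => hom_ext_aff hp fun x m => ?_
  show (v.hom.app x.1).app ⊤ m = 0
  -- global sections are killed on affine objects
  have hglob : ∀ (y : Aff 𝒜) (t : Γ(M.obj.obj w₀, ⊤)), (v.hom.app y.1).app ⊤ (M.obj.mapTop (hex y.1).some t) = 0 := by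
    intro y t
    let F : NatFam (StMod.O 𝒜) M.obj := ⟨fun y =>
      { toFun := fun e => (show Γ(StMod.sch 𝒜 y.1, ⊤) from e) • M.obj.mapTop (hex y.1).some t
        map_add' := fun e e' => add_smul (R := Γ(StMod.sch 𝒜 y.1, ⊤)) e e' _
        map_smul' := fun r e => mul_smul (α := Γ(StMod.sch 𝒜 y.1, ⊤)) r e _ },
      fun y' y φ e => by
        show M.obj.mapTop φ ((show Γ(StMod.sch 𝒜 y.1, ⊤) from e) • M.obj.mapTop (hex y.1).some t) = _
        rw [M.obj.mapTop_smul, ← M.obj.mapTop_comp, huniq (φ ≫ (hex y.1).some) (hex y'.1).some]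
        rfl⟩
    obtain ⟨a, ha⟩ := exists_hom_natFam hp M.property F
    have h1 : (a.app y.1).app ⊤ (one 𝒜 y.1) = M.obj.mapTop (hex y.1).some t := by
      rw [ha y (one 𝒜 y.1)]
      show (1 : Γ(StMod.sch 𝒜 y.1, ⊤)) • M.obj.mapTop (hex y.1).some t = _
      rw [one_smul]
    rw [← h1]
    exact congrArg (fun t : StMod.O 𝒜 ⟶ N.obj => (t.app y.1).app ⊤ (one 𝒜 y.1)) (hv PUnit.unit a)
  -- the objects over affine basic opens
  have hbasic : ∀ (r : Γ(StMod.sch 𝒜 w₀, ⊤)) (hr : IsAffineOpen ((StMod.sch 𝒜 w₀).basicOpen r)) (z : Aff 𝒜)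
      (j : z.1 ⟶ w₀), IsOpenImmersion (StMod.bmap 𝒜 j) →
      Set.range (StMod.bmap 𝒜 j) = ((StMod.sch 𝒜 w₀).basicOpen r : Set (StMod.sch 𝒜 w₀)) →
      ∀ n : Γ(M.obj.obj z.1, ⊤), (v.hom.app z.1).app ⊤ n = 0 := by
    intro r hr z j ho hrange n
    haveI := ho
    have h : ⊤ ≤ StMod.bmap 𝒜 j ⁻¹ᵁ (StMod.sch 𝒜 w₀).basicOpen r := fun s _ => by
      show StMod.bmap 𝒜 j s ∈ ((StMod.sch 𝒜 w₀).basicOpen r : Set (StMod.sch 𝒜 w₀))
      rw [← hrange]
      exact ⟨s, rfl⟩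
    obtain ⟨s, rfl⟩ := (bijective_toObj M.property.1 j _ h (fun t ht => by
      show t ∈ Set.range (StMod.bmap 𝒜 j)
      rw [hrange]
      exact ht)).2 n
    obtain ⟨k, t, ht⟩ := QCoh.exists_pow_smul_eq_map_of_isQuasiSeparated (M.property.2 w₀) (W := ⊤)
      isCompact_univ isQuasiSeparated_univ r s
    have h2 := congrArg (toObj M.obj j _ h) ht
    rw [toObj_smul, toObj_res M.obj j ((StMod.sch 𝒜 w₀).basicOpen_le r) (fun _ _ => trivial) h,
      toObj_top] at h2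
    have hu : IsUnit ((StMod.bmap 𝒜 j).appLE _ ⊤ h
        ((StMod.sch 𝒜 w₀).presheaf.map (homOfLE ((StMod.sch 𝒜 w₀).basicOpen_le r)).op r ^ k)) :=
      (((StMod.sch 𝒜 w₀).toRingedSpace.isUnit_res_basicOpen r).pow k).map _
    refine (hu.smul_eq_zero).1 ?_
    rw [← Scheme.Modules.Hom.app_smul, ← h2, huniq j (hex z.1).some]
    exact hglob z t
  -- cover the object by their preimages
  haveI : IsAffine (StMod.sch 𝒜 x.1) := x.2
  let ψ := StMod.bmap 𝒜 (hex x.1).some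
  have hcov : ∀ t : StMod.sch 𝒜 x.1, ∃ r : Γ(StMod.sch 𝒜 w₀, ⊤),
      IsAffineOpen ((StMod.sch 𝒜 w₀).basicOpen r) ∧ ψ t ∈ (StMod.sch 𝒜 w₀).basicOpen r := fun t => by
    obtain ⟨_, ⟨_, ⟨r, hr, rfl⟩, rfl⟩, hxr, -⟩ := (Scheme.IsQuasiAffine.isBasis_basicOpen
      (StMod.sch 𝒜 w₀)).exists_subset_of_mem_open (Set.mem_univ (ψ t)) isOpen_univ
    exact ⟨r, hr, hxr⟩
  choose r hr hmem using hcov
  choose y κ hκo hκr hκu using fun t => exists_open_obj hp (x := x.1) (ψ ⁻¹ᵁ (StMod.sch 𝒜 w₀).basicOpen (r t))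
  choose z j hjo hjr hju using fun t => exists_open_obj hp (x := w₀) ((StMod.sch 𝒜 w₀).basicOpen (r t))
  haveI := hκo
  haveI := hjo
  have hza : ∀ t, IsAffine (StMod.sch 𝒜 (z t)) := fun t => by
    haveI : IsAffine ((StMod.bmap 𝒜 (j t)).opensRange : Scheme.{u}) := by
      show IsAffineOpen _
      rw [show (StMod.bmap 𝒜 (j t)).opensRange = (StMod.sch 𝒜 w₀).basicOpen (r t) from SetLike.coe_injective (hjr t)]
      exact hr t
    exact IsAffine.of_isIso (StMod.bmap 𝒜 (j t)).isoOpensRange.hom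
  have hya : ∀ t, IsAffine (StMod.sch 𝒜 (y t)) := fun t => by
    haveI : IsAffine ((StMod.bmap 𝒜 (κ t)).opensRange : Scheme.{u}) := by
      show IsAffineOpen _
      rw [show (StMod.bmap 𝒜 (κ t)).opensRange = ψ ⁻¹ᵁ (StMod.sch 𝒜 w₀).basicOpen (r t) from
        SetLike.coe_injective (hκr t), Scheme.preimage_basicOpen_top]
      exact (isAffineOpen_top _).basicOpen _
    exact IsAffine.of_isIso (StMod.bmap 𝒜 (κ t)).isoOpensRange.hom
  refine (isZarSheaf_modSys hp N.property y κ ⟨fun t => inferInstance, fun t => inferInstance,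
    fun t => ⟨t, by rw [hκr]; exact hmem t⟩⟩ hκo).1 _ 0 fun t => ?_
  rw [map_zero, modSys_res, StMod.Mod.mapTop_app]
  obtain ⟨a, ha⟩ := hju t (y t) (κ t ≫ (hex x.1).some) (by
    rintro _ ⟨s, rfl⟩
    rw [StMod.bmap_comp, Scheme.Hom.comp_apply]
    exact (hκr t).subset ⟨s, rfl⟩)
  exact DFunLike.congr_fun (linearMap_ext_semiBC (isSemiBC_res M (y := ⟨y t, hya t⟩) (z := ⟨z t, hza t⟩) a)
    (g := (NatFam.ofHom v.hom).1 ⟨y t, hya t⟩) (g' := 0) fun n => by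
      show (v.hom.app (y t)).app ⊤ (M.obj.mapTop a n) = 0
      rw [← StMod.Mod.mapTop_app, hbasic (r t) (hr t) ⟨z t, hza t⟩ (j t) (hjo t) (hjr t) n,
        StMod.Mod.mapTop_zero]) _

variable {𝒳 𝒴 : AlgSt.Cat S}

/-- The category over an affine object along a quasi-affine morphism has a quasi-affine final object. -/
theorem exists_final_quasiAffine (hp' : FibCat.IsFibGrpd 𝒴.p) {f : 𝒳 ⥤ᵇ 𝒴}
    (hf : AlgSt.RepByAlgSpWith IsQuasiAffineMor f) (η : 𝒴.obj) [IsAffine (StMod.sch 𝒴 η)] :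
    ∃ w₀ : (StMod.fibCat f η).obj, (StMod.sch (StMod.fibCat f η) w₀).IsQuasiAffine ∧
      (∀ b, Nonempty (b ⟶ w₀)) ∧ ∀ {b : (StMod.fibCat f η).obj} (m m' : b ⟶ w₀), m = m' := by
  obtain ⟨g, e, -⟩ := exists_overCat_obj hp' η rfl
  haveI : IsAffine (𝒴.p.obj η).left := ‹IsAffine (StMod.sch 𝒴 η)›
  obtain ⟨F, k, hk, ha⟩ := hf (𝒴.p.obj η) g
  obtain ⟨W, i, fst, sq, hW⟩ := ha (Z := (𝒴.p.obj η)) inferInstance (𝟙 _)
  haveI : IsIso fst := sq.isIso_fst_of_isIso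
  let K : AlgSt.ofSp ((yon S).obj W) ⥤ᵇ FibCat.fp g f := BasedFunctor.comp (AlgSt.ofSpMap fst) k
  have hK : FibCat.IsEquivOver K := isEquivOver_comp (isEquivOver_ofSpMap fst) hk
  let v₀ : (AlgSt.ofSp ((yon S).obj W)).obj := ⟨W, ⟨𝟙 W⟩⟩
  have hv₀ : ∀ y, ∃! m : y ⟶ v₀, True := fun y => by
    refine ⟨⟨y.sec.down, ULift.ext _ _ (show y.sec.down ≫ 𝟙 W = y.sec.down from Category.comp_id _)⟩, trivial,
      fun m _ => Stk.EltObj.hom_ext ?_⟩
    have := congrArg ULift.down m.map_sec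
    exact (Category.comp_id _).symm.trans this
  have hv := existsUnique_hom_map hK v₀ hv₀
  let L := fpToFib g f e
  have hz := isFibGrpd_overCat (S := S) (𝒴.p.obj η)
  have hfull : ∀ {v' v : (FibCat.fp g f).obj} (m : L.obj v' ⟶ L.obj v), ∃ μ, L.map μ = m := fun {v' v} m => by
    have h : f.map m.left ≫ transMor g f v (fpTop g f v) = transMor g f v' (fpTop g f v') :=
      (cancel_mono e.hom).1 ((Category.assoc _ _ _).trans (CostructuredArrow.w m))
    obtain ⟨μ, hμ, -⟩ := exists_fp_hom g f hz hp' (fpTop g f v') (fpTop g f v) m.left h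
    exact ⟨μ, CostructuredArrow.hom_ext _ _ hμ⟩
  have hsurj : ∀ b, ∃ a, Nonempty (L.obj a ≅ b) := fun b => by
    obtain ⟨v, hv, β, hβ⟩ := exists_fp_obj g f hz hp' b.left (b.hom ≫ e.inv)
    refine ⟨v, ⟨CostructuredArrow.isoMk (eqToIso hv) ?_⟩⟩
    show f.map (eqToHom hv) ≫ b.hom = transMor g f v (fpTop g f v) ≫ e.hom
    rw [← eq_fpTop g f β, hβ]
    simp
  refine ⟨L.obj (K.obj v₀), ?_, fun b => ?_, fun {b} m m' => ?_⟩
  · show ((StMod.fibCat f η).p.obj (L.obj (K.obj v₀))).left.IsQuasiAffine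
    rw [(L.w_obj _).trans (K.w_obj v₀)]
    exact hW
  · obtain ⟨a, ⟨θ⟩⟩ := hsurj b
    obtain ⟨μ, -, -⟩ := hv a
    exact ⟨θ.inv ≫ L.map μ⟩
  · obtain ⟨a, ⟨θ⟩⟩ := hsurj b
    obtain ⟨μ, hμ⟩ := hfull (θ.hom ≫ m)
    obtain ⟨μ', hμ'⟩ := hfull (θ.hom ≫ m')
    rw [← cancel_epi θ.hom, ← hμ, ← hμ', (hv a).unique (y₁ := μ) (y₂ := μ') trivial trivial]

end Groth.Agent.H9Gen
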