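import Groth.Agent.H9Gen.PullMod
import Groth.Agent.H9Misc.FinSubfamily
import Groth.Agent.H23.LocFinCoprod
import Groth.Agent.QCoh.LocFree
import Groth.Agent.StModLib.PresExist

/-!
# Generating families on the category of a scheme give the resolution property
-/

set_option autoImplicit false
set_option linter.style.haveILetI false
set_option linter.unusedSectionVars false
set_option backward.isDefEq.respectTransparency false
set_option backward.isDefEq.respectTransparency.types false

universe v w u

open CategoryTheory CategoryTheory.Limits AlgebraicGeometry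
open Groth.Agent.StModLib

noncomputable section

attribute [local instance] Groth.Agent.QCoh.hasFiniteBiproducts

namespace Groth.Agent.H9Gen

variable {S : Scheme.{u}}

/-- A morphism out of a cartesian module which vanishes over an object vanishes over every object above it. -/
theorem app_eq_zero_of_hom {𝒜 : AlgSt.Cat S} {E M : StMod.Mod 𝒜} (hE : E.IsCartesian) (a : E ⟶ M) {y z : 𝒜.obj}
    (φ : y ⟶ z) (h : a.app z = 0) : a.app y = 0 := by
  let g := StMod.bmap 𝒜 φ
  let adj := Scheme.Modules.pullbackPushforwardAdjunction g
  haveI : IsIso ((adj.homEquiv (E.obj z) (E.obj y)).symm (E.map φ rfl)) := hE φ rfl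
  have h1 : E.map φ rfl ≫ (Scheme.Modules.pushforward g).map (a.app y) = 0 := by
    rw [a.comm φ rfl, h, zero_comp]
  have h2 : (adj.homEquiv (E.obj z) (E.obj y)).symm (E.map φ rfl) ≫ a.app y = 0 := by
    rw [← Adjunction.homEquiv_naturality_right_symm, h1, Adjunction.homEquiv_counit, Functor.map_zero, zero_comp]
  exact (cancel_epi ((adj.homEquiv (E.obj z) (E.obj y)).symm (E.map φ rfl))).1 (h2.trans comp_zero.symm)

variable (X : Over S)

/-- The structure morphisms of the objects of the category of a scheme. -/
abbrev toX (y : (FibCat.overCat X : AlgSt.Cat S).obj) : StMod.sch (FibCat.overCat X : AlgSt.Cat S) y ⟶ X.left :=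
  y.hom.left

theorem toX_comp {y' y : (FibCat.overCat X : AlgSt.Cat S).obj} (φ : y' ⟶ y) :
    StMod.bmap (FibCat.overCat X : AlgSt.Cat S) φ ≫ toX X y = toX X y' :=
  congrArg CommaMorphism.left (Over.w φ)

/-- Generators on the category of a scheme which are finite locally free on the scheme give the resolution
property. -/
theorem hasResolutionProperty_of_isGenFam [CompactSpace X.left] {ι : Type w}
    (E : ι → StMod.QCoh (FibCat.overCat X : AlgSt.Cat S))
    (hE : ∀ i, FlatMod.IsFinLocFree (show X.left.Modules from (E i).obj.obj (topOver X)))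
    (h : StMod.IsGenFam E) : PerfAux.HasResolutionProperty X.left := by
  classical
  intro M hM hft
  let G : ι → X.left.Modules := fun i => (E i).obj.obj (topOver X)
  let key : (Σ i, G i ⟶ M) → Subobject M := fun p => imageSubobject p.2
  haveI : IsGrothendieckAbelian.{u} X.left.Modules := inferInstance
  haveI : WellPowered.{u} X.left.Modules := inferInstance
  haveI : Small.{u} (Subobject M) := WellPowered.subobject_small M
  haveI : Small.{u} (Set.range key) := small_of_injective (f := fun x : Set.range key => x.1) Subtype.val_injective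
  let J := Shrink.{u} (Set.range key)
  let sec : J → Σ i, G i ⟶ M := fun j => ((equivShrink _).symm j).2.choose
  let f : ∀ j : J, G (sec j).1 ⟶ M := fun j => (sec j).2
  let π := cokernel.π (Sigma.desc f)
  have hzero : ∀ p : Σ i, G i ⟶ M, p.2 ≫ π = 0 := fun p => by
    have hj : f (equivShrink _ (⟨key p, p, rfl⟩ : Set.range key)) ≫ π = 0 := by
      rw [← Sigma.ι_desc f (equivShrink _ (⟨key p, p, rfl⟩ : Set.range key)), Category.assoc, cokernel.condition, comp_zero]
    have hk : imageSubobject (f (equivShrink _ (⟨key p, p, rfl⟩ : Set.range key))) = imageSubobject p.2 := by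
      show key (sec _) = key p
      exact ((equivShrink _).symm (equivShrink _ (⟨key p, p, rfl⟩ : Set.range key))).2.choose_spec.trans
        (congrArg Subtype.val ((equivShrink (Set.range key)).symm_apply_apply ⟨key p, p, rfl⟩))
    have h0 : (imageSubobject (f (equivShrink _ (⟨key p, p, rfl⟩ : Set.range key)))).arrow ≫ π = 0 := by
      rw [← cancel_epi (factorThruImageSubobject (f (equivShrink _ (⟨key p, p, rfl⟩ : Set.range key)))), ← Category.assoc,
        imageSubobject_arrow_comp, hj, comp_zero]
    rw [hk] at h0
    rw [← imageSubobject_arrow_comp p.2, Category.assoc, h0, comp_zero]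
  have hC : Coh.IsQCoh (cokernel (Sigma.desc f)) := QCoh.isQCoh_cokernel
    (H23.LocFinCoprod.isQCoh_coprod fun j => (E (sec j).1).property.2 (topOver X)) hM _
  let t := toX X
  let ht : ∀ {y' y : (FibCat.overCat X : AlgSt.Cat S).obj} (φ : y' ⟶ y),
      StMod.bmap (FibCat.overCat X : AlgSt.Cat S) φ ≫ t y = t y' := fun φ => toX_comp X φ
  let u : PullMod.qobj M t ht hM ⟶ PullMod.qobj (cokernel (Sigma.desc f)) t ht hC :=
    ObjectProperty.homMk (PullMod.map t ht π)
  let idI : Scheme.Modules.pullback (t (topOver X)) ≅ 𝟭 X.left.Modules := Scheme.Modules.pullbackId X.left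
  have hu : u = 0 := (StMod.isGenFam_iff E).1 h u fun i φ => by
    refine StMod.Mod.hom_ext fun y => app_eq_zero_of_hom (E i).property.1 (φ ≫ u.hom) (z := topOver X)
      (Over.homMk y.hom (Category.comp_id _)) ?_
    show φ.app (topOver X) ≫ (Scheme.Modules.pullback (t (topOver X))).map π = 0
    rw [← cancel_mono (idI.hom.app _), Category.assoc, idI.hom.naturality π, zero_comp]
    exact (Category.assoc _ _ _).symm.trans (hzero ⟨i, φ.app (topOver X) ≫ idI.hom.app M⟩)
  have hπ : π = 0 := by
    have e := congrArg (fun a : PullMod.qobj M t ht hM ⟶ PullMod.qobj (cokernel (Sigma.desc f)) t ht hC =>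
      a.hom.app (topOver X)) hu
    have e' : (Scheme.Modules.pullback (t (topOver X))).map π = 0 := e
    have e2 := idI.hom.naturality π
    rw [e', zero_comp] at e2
    exact (cancel_epi (idI.hom.app M)).1 (e2.symm.trans comp_zero.symm)
  have hepi : Epi (Sigma.desc f) := Preadditive.epi_of_cokernel_zero hπ
  obtain ⟨n, j, hj⟩ := H9Misc.FinSubfamily.exists_finite_epi hM hft _ f hepi
  exact ⟨_, _, KExact.AmpleFamily.isFinLocFree_biproduct _ fun a => hE _, hj⟩

end Groth.Agent.H9Gen
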