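import Groth.Agent.H9Gen.QuasiAffine
import Groth.Agent.H9Gen.ResPropScheme
import Groth.Agent.H9Gen.LocFree
import Groth.Agent.H9Misc.QuotAffineDiag
import Groth.Agent.StModLib.QuotAff.QcQs
import Groth.Agent.StModLib.AffineMorExact

/-!
# The resolution property of a quotient stack gives the one of the scheme
-/

set_option autoImplicit false
set_option linter.style.haveILetI false
set_option linter.unusedSectionVars false
set_option backward.isDefEq.respectTransparency false
set_option backward.isDefEq.respectTransparency.types false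

universe v w u

open CategoryTheory CategoryTheory.Limits AlgebraicGeometry AlgSp
open Groth.Agent.StModLib Groth.Agent.AlgStLib Groth.Agent.AlgSpLib Groth.Agent.FibBase Groth.Agent.QuotLib
open Groth.Agent.H9Misc.QuotAffineDiag

noncomputable section

namespace Groth.Agent.H9Gen

variable {S : Scheme.{u}}

/-- An object of the base category. -/
def selfTop (S : Scheme.{u}) : (FibCat.selfOver (Over S) : AlgSt.Cat S).obj := Over.mk (𝟙 S)

/-- Every category over the base, seen over the final object. -/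
def toSelfTop (𝒴 : AlgSt.Cat S) : 𝒴 ⥤ᵇ StMod.fibCat (FibCat.toSelf 𝒴) (selfTop S) where
  toFunctor :=
    { obj := fun y => CostructuredArrow.mk (Y := y) (Over.mkIdTerminal.from ((FibCat.toSelf 𝒴).obj y))
      map := fun {y' y} m => CostructuredArrow.homMk m (Over.mkIdTerminal.hom_ext _ _) }
  w := rfl

theorem toSelfTop_full (𝒴 : AlgSt.Cat S) : (toSelfTop 𝒴).toFunctor.Full :=
  ⟨fun {_ _} m => ⟨m.left, CostructuredArrow.hom_ext _ _ rfl⟩⟩

/-- Generators generate relative to the base when it is affine. -/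
theorem isRelGenFam_toSelf [IsAffine S] {𝒴 : AlgSt.Cat S} (h𝒴 : AlgSt.IsAlgStack Scheme.fppfPrecoverage 𝒴) {ι : Type v}
    (E : ι → StMod.QCoh 𝒴) (h : StMod.IsGenFam E) : StMod.IsRelGenFam (FibCat.toSelf 𝒴) E := by
  intro η hη
  have hy := h𝒴.isStack.1
  refine isGenFam_of_morphism (FibCat.toSelf 𝒴) h𝒴 (isDM_of_repByAlgSp repByAlgSp_selfOver).1
    (ζ' := η) (ζ := selfTop S) (Over.mkIdTerminal.from η) hη (show IsAffine S from ‹_›) E ?_
  haveI := toSelfTop_full 𝒴
  refine isGenFam_of_comap (toSelfTop 𝒴) hy (isFibGrpd_fibCat _ _ hy)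
    (fun b => ⟨b.1.left, ⟨CostructuredArrow.isoMk (Iso.refl _) (Over.mkIdTerminal.hom_ext _ _)⟩⟩) _
    (isGenFam_of_iso (fun i => ?_) h)
  exact (StMod.comapIdIso (E i).obj).symm ≪≫
    StMod.comapCompIso (StMod.fibFst (FibCat.toSelf 𝒴) (selfTop S)) (toSelfTop 𝒴) (E i).obj

/-- If the finite locally free modules generate on a quotient stack, the scheme has the resolution property. -/
theorem hasResolutionProperty_of_quot [IsAffine S] {G : Over S} [GrpObj G] [IsAffineHom G.hom] [Flat G.hom]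
    [LocallyOfFinitePresentation G.hom] {X : Over S} [QuasiCompact X.hom] {aX : AlgGrp.Action G X}
    {ι : Type w} (E : ι → StMod.QCoh (AlgSt.QuotSt Scheme.fppfPrecoverage G aX))
    (hE : ∀ i, (E i).obj.IsLocFree ∧ (E i).obj.IsFinType) (h : StMod.IsGenFam E) :
    PerfAux.HasResolutionProperty X.left := by
  haveI : CompactSpace X.left := QuasiCompact.compactSpace_of_compactSpace X.hom
  let 𝒳 := AlgSt.QuotSt Scheme.fppfPrecoverage G aX
  have h𝒳 : AlgSt.IsAlgStack Scheme.fppfPrecoverage 𝒳 := Groth.Agent.FCov14.Compare.isAlgStack_quotSt aX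
  have hX := isAlgStack_overCat (S := S) X
  let q := quotOver Scheme.fppfPrecoverage G aX
  have hq : AlgSt.RepByAlgSpWith IsAffineMor q := repByAlgSpWith_quot _ fun A _ eU => isAffineMor_π A eU
  have hqs : AlgSt.IsQuasiSeparatedMor q :=
    repByAlgSpWith_diag_of_repByAlgSp1 stableBC_qcqs (repByAlgSp1_of_repByAlgSpWith hq) fun a _ y e he ha => by
      have h1 := diag_isClosedImmersion (ha ▸ (RepOver.property_of_stableBC stableBC_isAffineMor (hq _ y) e he).2)
      have h2 := Groth.Agent.AlgSpDec.repWith_isAffineHom_of_isAffineMor h1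
      exact ⟨AlgSpPts.isQuasiCompactMor_of_repWith
        (repWith_mono (fun _ _ g (_ : IsAffineHom g) => (inferInstance : QuasiCompact g)) _ h2),
        AlgSpDec.isQuasiSeparatedMor_of_isSeparatedMor (AlgSpDec.isSeparatedMor_of_repWith_affine h2)⟩
  have hO : StMod.IsRelGenFam q (fun _ : PUnit.{u + 1} => StMod.OQ (FibCat.overCat X : AlgSt.Cat S)) := by
    intro η hη
    haveI : IsAffine (StMod.sch 𝒳 η) := hη
    obtain ⟨w₀, hw, hex, huniq⟩ := exists_final_quasiAffine h𝒳.isStack.1
      (repByAlgSpWith_mono (fun _ _ _ ha => H9Misc.QAComp.isQuasiAffineMor_of_isAffineMor ha) hq) η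
    exact isGenFam_of_iso (fun _ => (StMod.comapOIso (StMod.fibFst q η)).symm)
      (isGenFam_O_of_quasiAffine (isFibGrpd_fibCat q η hX.isStack.1) w₀ hw hex huniq)
  have hrel := isRelGenFam_comp_comapQ hX.isStack.1 h𝒳 (isDM_of_repByAlgSp repByAlgSp_selfOver).1 q
    (isQuasiCompactMor_of_affineMor hX h𝒳 hq) hqs (FibCat.toSelf 𝒳) E hO (isRelGenFam_toSelf h𝒳 E h)
  rw [comp_toSelf] at hrel
  let π₀ : StMod.fibCat (FibCat.toSelf (FibCat.overCat X : AlgSt.Cat S)) (selfTop S) ⥤ᵇ FibCat.overCat X :=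
    StMod.fibFst _ _
  haveI : π₀.toFunctor.Full :=
    ⟨fun {_ _} m => ⟨CostructuredArrow.homMk m (Over.mkIdTerminal.hom_ext _ _), rfl⟩⟩
  refine hasResolutionProperty_of_isGenFam X (fun i => (StMod.comapQ q).obj (E i)) (fun i => ?_)
    (isGenFam_of_comap π₀ (isFibGrpd_fibCat _ _ hX.isStack.1) hX.isStack.1
      (fun b => ⟨CostructuredArrow.mk (Y := b.1) (Over.mkIdTerminal.from _), ⟨Iso.refl _⟩⟩) _
      (hrel (selfTop S) (show IsAffine S from ‹_›)))
  have key : ∀ {X T : Scheme.{u}} (e : X = T) (N : X.Modules), FlatMod.IsFinLocFree N →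
      FlatMod.IsFinLocFree (StMod.castMod e N) := fun e N hN => by subst e; exact hN
  exact key _ _ (StModLib.isFinLocFree_of_isLocallyFree ((hE i).1 _) ((hE i).2 _))

end Groth.Agent.H9Gen
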