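import Groth.Agent.H9Gen.Fibre

/-!
# Generation passes along functors which are full and essentially surjective
-/

set_option autoImplicit false
set_option linter.style.haveILetI false
set_option linter.unusedSectionVars false
set_option backward.isDefEq.respectTransparency false
set_option backward.isDefEq.respectTransparency.types false

universe v u

open CategoryTheory CategoryTheory.Limits AlgebraicGeometry
open Groth.Agent.StModLib

noncomputable section

namespace Groth.Agent.H9Gen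

variable {S : Scheme.{u}} {𝒜 ℬ : AlgSt.Cat S} (L : 𝒜 ⥤ᵇ ℬ)

/-- The image of an affine object. -/
def imgAff (a : Aff 𝒜) : Aff ℬ :=
  ⟨L.obj a.1, by haveI := a.2; exact IsAffine.of_isIso (eqToHom (StMod.sch_obj_eq L a.1))⟩

/-- A linear map between inverse images, read at the image. -/
def transLin {E M : StMod.Mod ℬ} (a : Aff 𝒜)
    (h : Γ((StMod.Mod.comap L E).obj a.1, ⊤) →ₗ[Γ(StMod.sch 𝒜 a.1, ⊤)] Γ((StMod.Mod.comap L M).obj a.1, ⊤)) :
    Γ(E.obj (L.obj a.1), ⊤) →ₗ[Γ(StMod.sch ℬ (L.obj a.1), ⊤)] Γ(M.obj (L.obj a.1), ⊤) where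
  toFun e := cmp L M a.1 (h ((cmp L E a.1).symm e))
  map_add' e e' := by rw [map_add, map_add, map_add]
  map_smul' r e := by
    have key : ∀ G : StMod.Mod ℬ, ∀ n : Γ(G.obj (L.obj a.1), ⊤), (cmp L G a.1).symm (r • n) =
        (inv (eqToHom (StMod.sch_obj_eq L a.1))).appTop r • (cmp L G a.1).symm n := fun G n => by
      apply (cmp L G a.1).injective
      rw [AddEquiv.apply_symm_apply, cmp_smul, AddEquiv.apply_symm_apply]
      refine congrArg (fun t : Γ(StMod.sch ℬ (L.obj a.1), ⊤) => t • n) ?_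
      show r = (eqToHom (StMod.sch_obj_eq L a.1) ≫ inv (eqToHom (StMod.sch_obj_eq L a.1))).appTop r
      rw [IsIso.hom_inv_id]
      rfl
    rw [key, map_smul]
    apply (cmp L M a.1).symm.injective
    rw [AddEquiv.symm_apply_apply, RingHom.id_apply, key, AddEquiv.symm_apply_apply]

theorem transLin_apply {E M : StMod.Mod ℬ} (a : Aff 𝒜)
    (h : Γ((StMod.Mod.comap L E).obj a.1, ⊤) →ₗ[Γ(StMod.sch 𝒜 a.1, ⊤)] Γ((StMod.Mod.comap L M).obj a.1, ⊤))
    (e : Γ(E.obj (L.obj a.1), ⊤)) : transLin L a h e = cmp L M a.1 (h ((cmp L E a.1).symm e)) := rfl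

theorem transLin_nat {E M : StMod.Mod ℬ} (n : NatFam (StMod.Mod.comap L E) (StMod.Mod.comap L M)) {a' a : Aff 𝒜}
    (ψ : a'.1 ⟶ a.1) (e : Γ(E.obj (L.obj a.1), ⊤)) :
    M.mapTop (L.map ψ) (transLin L a (n.1 a) e) = transLin L a' (n.1 a') (E.mapTop (L.map ψ) e) := by
  rw [transLin_apply, transLin_apply, ← cmp_mapTop, n.2 ψ]
  refine congrArg (fun z => cmp L M a'.1 (n.1 a' z)) ((cmp L E a'.1).injective ?_)
  rw [cmp_mapTop, AddEquiv.apply_symm_apply, AddEquiv.apply_symm_apply]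

/-- Generators which pull back to generators along a full and essentially surjective functor generate. -/
theorem isGenFam_of_comap (ha : FibCat.IsFibGrpd 𝒜.p) (hb : FibCat.IsFibGrpd ℬ.p) [L.toFunctor.Full]
    (hsurj : ∀ b : Aff ℬ, ∃ a : 𝒜.obj, Nonempty (L.obj a ≅ b.1)) {ι : Type v} (E : ι → StMod.QCoh ℬ)
    (h : StMod.IsGenFam fun i => (StMod.comapQ L).obj (E i)) : StMod.IsGenFam E := by
  have hsurj' : ∀ b : Aff ℬ, ∃ a : Aff 𝒜, Nonempty (L.obj a.1 ≅ b.1) := fun b => by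
    obtain ⟨a, ⟨θ⟩⟩ := hsurj b
    haveI := b.2
    haveI : IsIso (StMod.bmap ℬ θ.hom) := inferInstanceAs (IsIso (ℬ.p.map θ.hom).left)
    exact ⟨⟨a, IsAffine.of_isIso (inv (eqToHom (StMod.sch_obj_eq L a)) ≫ StMod.bmap ℬ θ.hom)⟩, ⟨θ⟩⟩
  refine (StMod.isGenFam_iff E).2 fun M N u hu => ?_
  have h0 : (StMod.comapQ L).map u = 0 := (StMod.isGenFam_iff _).1 h _ fun i φ => by
    let n := NatFam.ofHom φ
    let h₀ : ∀ a : Aff 𝒜, LHom (E i) M (imgAff L a) := fun a => transLin L a (n.1 a)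
    have hh₀ : ∀ {a' a : Aff 𝒜} (ψ : a'.1 ⟶ a.1),
        h₀ a' = extend (y := imgAff L a') (z := imgAff L a) (L.map ψ) (h₀ a) := fun ψ =>
      eq_extend fun e => (transLin_nat L n ψ e).symm
    obtain ⟨g, hg⟩ := exists_natFam_of_charts hb (E := (E i).obj) (M := M.obj) M.property
      (fun b : Aff ℬ => Σ a : Aff 𝒜, (b.1 ⟶ L.obj a.1))
      (fun b c => extend (y := b) (z := imgAff L c.1) c.2 (h₀ c.1))
      (fun b' b χ c => ⟨⟨c.1, χ ≫ c.2⟩, fun e => mapTop_extend (z := imgAff L c.1) χ c.2 (h₀ c.1) e⟩)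
      (fun b p q => by
        obtain ⟨a, ⟨θ⟩⟩ := hsurj' b
        have key : ∀ c : Σ a : Aff 𝒜, (b.1 ⟶ L.obj a.1), extend (y := b) (z := imgAff L c.1) c.2 (h₀ c.1) =
            extend (y := b) (z := imgAff L a) θ.inv (h₀ a) := fun c => by
          obtain ⟨ψ, hψ⟩ := L.toFunctor.map_surjective (θ.hom ≫ c.2)
          rw [hh₀ ψ, ← extend_comp (x := b) (y := imgAff L a) (z := imgAff L c.1),
            show θ.inv ≫ L.map ψ = c.2 from (congrArg (θ.inv ≫ ·) hψ).trans (θ.inv_hom_id_assoc c.2)]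
        exact (key p).trans (key q).symm)
      (fun b => by
        obtain ⟨a, ⟨θ⟩⟩ := hsurj' b
        exact ⟨PUnit, fun _ => b, fun _ => 𝟙 b.1, ⟨fun _ => by rw [StMod.bmap_id]; infer_instance,
          fun _ => by rw [StMod.bmap_id]; infer_instance, fun t => ⟨⟨⟩, t, by rw [StMod.bmap_id]; rfl⟩⟩,
          fun _ => ⟨⟨a, θ.inv⟩⟩⟩)
    obtain ⟨f, hf⟩ := exists_hom_natFam hb M.property g
    refine congrArg InducedCategory.Hom.hom (hom_ext_aff ha (u := ObjectProperty.homMk φ ≫ (StMod.comapQ L).map u)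
      (v := 0) fun y e => ?_)
    show ((StMod.Mod.comapMap L u.hom).app y.1).app ⊤ (n.1 y e) = 0
    apply (cmp L N.obj y.1).injective
    rw [cmp_comapMap, map_zero]
    have e2 : h₀ y = g.1 (imgAff L y) := by
      refine Eq.trans ?_ (hg (imgAff L y) (⟨y, 𝟙 (L.obj y.1)⟩ :
        Σ a : Aff 𝒜, ((imgAff L y).1 ⟶ L.obj a.1))).symm
      exact eq_extend (y := imgAff L y) (z := imgAff L y) (ψ := 𝟙 (L.obj y.1)) (h₀ := h₀ y)
        fun e => (congrArg (h₀ y) ((E i).obj.mapTop_id _ e)).trans (M.obj.mapTop_id _ _).symm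
    have e3 : cmp L M.obj y.1 (n.1 y e) = (f.app (L.obj y.1)).app ⊤ (cmp L (E i).obj y.1 e) := by
      refine Eq.trans ?_ (hf (imgAff L y) _).symm
      rw [← e2]
      show _ = transLin L y (n.1 y) _
      exact congrArg (fun z => cmp L M.obj y.1 (n.1 y z)) ((cmp L (E i).obj y.1).symm_apply_apply e).symm
    rw [e3]
    exact congrArg (fun t : (E i).obj ⟶ N.obj => (t.app (L.obj y.1)).app ⊤ (cmp L (E i).obj y.1 e)) (hu i f)
  refine hom_ext_aff hb fun b m => ?_
  obtain ⟨a, ⟨θ⟩⟩ := hsurj' b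
  refine mapTop_injective_of_isIso N.obj θ.hom ?_
  show N.obj.mapTop θ.hom ((u.hom.app b.1).app ⊤ m) = N.obj.mapTop θ.hom 0
  rw [StMod.Mod.mapTop_app, StMod.Mod.mapTop_zero]
  have h1 := congrArg (fun t : (StMod.comapQ L).obj M ⟶ (StMod.comapQ L).obj N =>
    cmp L N.obj a.1 ((t.hom.app a.1).app ⊤ ((cmp L M.obj a.1).symm (M.obj.mapTop θ.hom m)))) h0
  exact ((congrArg _ ((cmp L M.obj a.1).apply_symm_apply _).symm).trans
    (cmp_comapMap L u.hom a.1 _).symm).trans (h1.trans (map_zero _))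

end Groth.Agent.H9Gen
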